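import Cfsg.Agent.Classification.InvCentPL.QDTri

/-!
The index of the centralizer of an involution in the case `q = 3 mod 4`.
-/

set_option autoImplicit false

namespace Cfsg.Agent.Classification.InvCentPL.QDIndex

open Matrix
open scoped MatrixGroups
open Cfsg.Agent.Classification.IdL3.Setup
open Cfsg.Agent.Classification.InvCentPL.QDOrder

variable {F : Type*} [Field F] {G : Type*} [Group G] {φ : GL (Fin 2) F →* G} {n : G}

/-- **S0484, `q = 3 mod 4`**: the index of the centralizer of an involution. -/
theorem index_eq [Finite G] [Finite F] (hH : Hyp φ n)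
    (h4 : Nat.card F % 4 = 3) {k : ℤ} (hD : Data (tt φ) (Nat.card F) k) :
    (Subgroup.centralizer {tt φ}).index = Nat.card F ^ 2 * (Nat.card F ^ 2 + Nat.card F + 1) ∨
      Nat.card G = 7920 := by
  obtain ⟨p, hp⟩ := CharP.exists F
  have hp' : Fact p.Prime := ⟨(CharP.char_is_prime_or_zero F p).resolve_right
    (CharP.char_ne_zero_of_finite F p)⟩
  exact QDOrder.order (p := p) hH h4 hD fun _ => QDTri.tri p hH

end Cfsg.Agent.Classification.InvCentPL.QDIndex
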