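import Cfsg.Agent.Classification.IdL3.MatTwo

/-!
A subgroup of `GL (Fin 2) F` which contains all diagonal matrices but no nontrivial root element
consists of monomial matrices, if `F` has more than `5` elements.
-/

set_option autoImplicit false

namespace Cfsg.Agent.Classification.InvCentPL.Monomial

open Matrix
open scoped MatrixGroups
open Cfsg.Agent.Classification.IdL3.Mat
open Cfsg.Agent.Classification.IdL3.MatTwo

variable {F : Type*} [Field F]

/-- In a field with more than five elements, there is an element outside `{0, 1, -1}` whose square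
is not `-1`. -/
theorem exists_elt (h5 : 5 < Nat.card F) :
    ∃ u : F, u ≠ 0 ∧ u ≠ 1 ∧ u ≠ -1 ∧ u * u ≠ -1 := by
  classical
  by_contra hcon
  push Not at hcon
  have hfin : Finite F := Nat.finite_of_card_ne_zero (by omega)
  have : Fintype F := Fintype.ofFinite F
  rw [Nat.card_eq_fintype_card] at h5
  have h1 : ∃ i : F, i ∉ ({0, 1, -1} : Finset F) := by
    by_contra h
    push Not at h
    have h2 : Fintype.card F ≤ ({0, 1, -1} : Finset F).card := by
      rw [← Finset.card_univ]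
      exact Finset.card_le_card fun x _ => h x
    have h3 := Finset.card_le_three (a := (0 : F)) (b := 1) (c := -1)
    omega
  obtain ⟨i, hi⟩ := h1
  simp only [Finset.mem_insert, Finset.mem_singleton, not_or] at hi
  have hi2 := hcon i hi.1 hi.2.1 hi.2.2
  have h2 : Fintype.card F ≤ ({0, 1, -1, i, -i} : Finset F).card := by
    rw [← Finset.card_univ]
    refine Finset.card_le_card fun x _ => ?_
    simp only [Finset.mem_insert, Finset.mem_singleton]
    by_contra hx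
    simp only [not_or] at hx
    have hx2 := hcon x hx.1 hx.2.1 hx.2.2.1
    have : x * x = i * i := by rw [hx2, hi2]
    rcases mul_self_eq_mul_self_iff.1 this with h | h
    · exact hx.2.2.2.1 h
    · exact hx.2.2.2.2 h
  have h3 := Finset.card_le_five (a := (0 : F)) (b := 1) (c := -1) (d := i) (e := -i)
  omega

/-- no element has exactly one zero entry (upper right) -/
theorem zero_of_10 (M : Subgroup (GL (Fin 2) F)) (hT : ∀ a b : Fˣ, T a b ∈ M)
    (hU : ∀ c : F, U c ∈ M → c = 0) {g : GL (Fin 2) F} (hg : g ∈ M) (h : g.1 1 0 = 0) :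
    g.1 0 1 = 0 := by
  obtain ⟨x, a, b, rfl⟩ := eq_UT g h
  have h1 : U x ∈ M := by
    have := M.mul_mem hg (M.inv_mem (hT a b))
    rwa [mul_inv_cancel_right] at this
  rw [hU x h1, U_zero, one_mul, T_01]

theorem zero_of_01 (M : Subgroup (GL (Fin 2) F)) (hT : ∀ a b : Fˣ, T a b ∈ M)
    (hL : ∀ c : F, L c ∈ M → c = 0) {g : GL (Fin 2) F} (hg : g ∈ M) (h : g.1 0 1 = 0) :
    g.1 1 0 = 0 := by
  have hd := det_ne g
  rw [h, zero_mul, sub_zero] at hd
  have ha := left_ne_zero_of_mul hd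
  have hb := right_ne_zero_of_mul hd
  have e : g = T (Units.mk0 _ ha) (Units.mk0 _ hb) * L (g.1 1 0 / g.1 1 1) := by
    apply ext4 <;> simp [mul_val, h]
    field_simp
  have h1 : L (g.1 1 0 / g.1 1 1) ∈ M := by
    have := M.mul_mem (M.inv_mem (hT (Units.mk0 _ ha) (Units.mk0 _ hb))) hg
    have e2 : (T (Units.mk0 _ ha) (Units.mk0 _ hb))⁻¹ * g = L (g.1 1 0 / g.1 1 1) := by
      rw [inv_mul_eq_iff_eq_mul]; exact e
    rwa [e2] at this
  rcases div_eq_zero_iff.1 (hL _ h1) with h2 | h2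
  · exact h2
  · exact absurd h2 hb

theorem zero_of_00 (h2 : ∃ e : F, e ≠ 0 ∧ e ≠ 1) (M : Subgroup (GL (Fin 2) F))
    (hT : ∀ a b : Fˣ, T a b ∈ M) (hU : ∀ c : F, U c ∈ M → c = 0) {g : GL (Fin 2) F} (hg : g ∈ M)
    (h : g.1 0 0 = 0) : g.1 1 1 = 0 := by
  obtain ⟨e, he0, he1⟩ := h2
  have hd := det_ne g
  rw [h, zero_mul, zero_sub, neg_ne_zero] at hd
  have hc : g.1 1 0 ≠ 0 := right_ne_zero_of_mul hd
  have key : T 1 (Units.mk0 e he0) * g * T (Units.mk0 e he0)⁻¹ 1 =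
      g * U (g.1 1 1 * (e - 1) / g.1 1 0) := by
    apply ext4 <;> simp [mul_val, h]
    · field_simp
    · field_simp; ring
  have h1 : U (g.1 1 1 * (e - 1) / g.1 1 0) ∈ M := by
    have := M.mul_mem (M.inv_mem hg) (M.mul_mem (M.mul_mem (hT 1 (Units.mk0 e he0)) hg)
      (hT (Units.mk0 e he0)⁻¹ 1))
    rwa [key, inv_mul_cancel_left] at this
  rcases div_eq_zero_iff.1 (hU _ h1) with h3 | h3
  · rcases mul_eq_zero.1 h3 with h4 | h4
    · exact h4
    · exact absurd (sub_eq_zero.1 h4) he1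
  · exact absurd h3 hc

theorem zero_of_11 (h2 : ∃ e : F, e ≠ 0 ∧ e ≠ 1) (M : Subgroup (GL (Fin 2) F))
    (hT : ∀ a b : Fˣ, T a b ∈ M) (hL : ∀ c : F, L c ∈ M → c = 0) {g : GL (Fin 2) F} (hg : g ∈ M)
    (h : g.1 1 1 = 0) : g.1 0 0 = 0 := by
  obtain ⟨e, he0, he1⟩ := h2
  have hd := det_ne g
  rw [h, mul_zero, zero_sub, neg_ne_zero] at hd
  have hb : g.1 0 1 ≠ 0 := left_ne_zero_of_mul hd
  have key : T (Units.mk0 e he0) 1 * g * T 1 (Units.mk0 e he0)⁻¹ =
      g * L (g.1 0 0 * (e - 1) / g.1 0 1) := by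
    apply ext4 <;> simp [mul_val, h]
    · field_simp; ring
    · field_simp
  have h1 : L (g.1 0 0 * (e - 1) / g.1 0 1) ∈ M := by
    have := M.mul_mem (M.inv_mem hg) (M.mul_mem (M.mul_mem (hT (Units.mk0 e he0) 1) hg)
      (hT 1 (Units.mk0 e he0)⁻¹))
    rwa [key, inv_mul_cancel_left] at this
  rcases div_eq_zero_iff.1 (hL _ h1) with h3 | h3
  · rcases mul_eq_zero.1 h3 with h4 | h4
    · exact h4
    · exact absurd (sub_eq_zero.1 h4) he1
  · exact absurd h3 hb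

/-- If all entries are nonzero then the cross ratio is `-1`. -/
theorem cross (h2 : ∃ e : F, e ≠ 0 ∧ e ≠ 1) (M : Subgroup (GL (Fin 2) F))
    (hT : ∀ a b : Fˣ, T a b ∈ M) (hU : ∀ c : F, U c ∈ M → c = 0) {g : GL (Fin 2) F} (hg : g ∈ M)
    (h00 : g.1 0 0 ≠ 0) (h01 : g.1 0 1 ≠ 0) (h10 : g.1 1 0 ≠ 0) :
    g.1 0 0 * g.1 1 1 + g.1 0 1 * g.1 1 0 = 0 := by
  have hd := det_ne g
  have h1 : g * T (Units.mk0 _ (mul_ne_zero h01 h10))
      (Units.mk0 _ (neg_ne_zero.2 (mul_ne_zero h00 h00))) * g ∈ M :=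
    M.mul_mem (M.mul_mem hg (hT _ _)) hg
  have h3 := zero_of_00 h2 M hT hU h1 (by simp [mul_val]; ring)
  simp only [mul_val, T_00, T_01, T_10, T_11, Units.val_mk0, mul_zero, add_zero, zero_add] at h3
  have h4 : (g.1 0 0 * g.1 1 1 - g.1 0 1 * g.1 1 0) *
      (g.1 0 0 * g.1 1 1 + g.1 0 1 * g.1 1 0) = 0 := by linear_combination -h3
  exact (mul_eq_zero.1 h4).resolve_left hd

/-- **Main lemma.** -/
theorem monomial (h5 : 5 < Nat.card F) (h2 : (2 : F) ≠ 0) (M : Subgroup (GL (Fin 2) F))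
    (hT : ∀ a b : Fˣ, T a b ∈ M) (hU : ∀ c : F, U c ∈ M → c = 0) (hL : ∀ c : F, L c ∈ M → c = 0)
    {g : GL (Fin 2) F} (hg : g ∈ M) :
    (g.1 0 1 = 0 ∧ g.1 1 0 = 0) ∨ (g.1 0 0 = 0 ∧ g.1 1 1 = 0) := by
  obtain ⟨u, hu0, hu1, hu2, hu3⟩ := exists_elt h5
  have he : ∃ e : F, e ≠ 0 ∧ e ≠ 1 := ⟨u, hu0, hu1⟩
  by_cases h01 : g.1 0 1 = 0
  · exact Or.inl ⟨h01, zero_of_01 M hT hL hg h01⟩
  by_cases h10 : g.1 1 0 = 0
  · exact absurd (zero_of_10 M hT hU hg h10) h01
  by_cases h00 : g.1 0 0 = 0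
  · exact Or.inr ⟨h00, zero_of_00 he M hT hU hg h00⟩
  by_cases h11 : g.1 1 1 = 0
  · exact absurd (zero_of_11 he M hT hL hg h11) h00
  exfalso
  have hcr := cross he M hT hU hg h00 h01 h10
  have ha : u / g.1 0 0 ≠ 0 := div_ne_zero hu0 h00
  have hb : 1 / g.1 1 1 ≠ 0 := div_ne_zero one_ne_zero h11
  have h1 : g * T (Units.mk0 _ ha) (Units.mk0 _ hb) * g ∈ M :=
    M.mul_mem (M.mul_mem hg (hT _ _)) hg
  have e0 : u / g.1 0 0 * g.1 0 0 = u := div_mul_cancel₀ _ h00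
  have e1 : 1 / g.1 1 1 * g.1 1 1 = 1 := div_mul_cancel₀ _ h11
  have f00 : (g * T (Units.mk0 _ ha) (Units.mk0 _ hb) * g).1 0 0 = g.1 0 0 * (u - 1) := by
    simp only [mul_val, T_00, T_01, T_10, T_11, Units.val_mk0, mul_zero, add_zero, zero_add]
    linear_combination (g.1 0 0) * e0 + (1 / g.1 1 1) * hcr - (g.1 0 0) * e1
  have f11 : (g * T (Units.mk0 _ ha) (Units.mk0 _ hb) * g).1 1 1 = - (g.1 1 1 * (u - 1)) := by
    simp only [mul_val, T_00, T_01, T_10, T_11, Units.val_mk0, mul_zero, add_zero, zero_add]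
    linear_combination (g.1 1 1) * e1 + (u / g.1 0 0) * hcr - (g.1 1 1) * e0
  have f01 : (g * T (Units.mk0 _ ha) (Units.mk0 _ hb) * g).1 0 1 = g.1 0 1 * (u + 1) := by
    simp only [mul_val, T_00, T_01, T_10, T_11, Units.val_mk0, mul_zero, add_zero, zero_add]
    linear_combination (g.1 0 1) * e0 + (g.1 0 1) * e1
  have f10 : (g * T (Units.mk0 _ ha) (Units.mk0 _ hb) * g).1 1 0 = g.1 1 0 * (u + 1) := by
    simp only [mul_val, T_00, T_01, T_10, T_11, Units.val_mk0, mul_zero, add_zero, zero_add]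
    linear_combination (g.1 1 0) * e0 + (g.1 1 0) * e1
  have hm1 : u - 1 ≠ 0 := sub_ne_zero.2 hu1
  have hp1 : u + 1 ≠ 0 := fun h => hu2 (eq_neg_of_add_eq_zero_left h)
  have h3 := cross he M hT hU h1 (by rw [f00]; exact mul_ne_zero h00 hm1)
    (by rw [f01]; exact mul_ne_zero h01 hp1) (by rw [f10]; exact mul_ne_zero h10 hp1)
  rw [f00, f11, f01, f10] at h3
  have h4 : (g.1 0 0 * g.1 1 1) * (2 * (u * u + 1)) = 0 := by
    linear_combination (u + 1) ^ 2 * hcr - h3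
  rcases mul_eq_zero.1 h4 with h | h
  · exact (mul_ne_zero h00 h11) h
  · rcases mul_eq_zero.1 h with h | h
    · exact h2 h
    · exact hu3 (eq_neg_of_add_eq_zero_left h)

end Cfsg.Agent.Classification.InvCentPL.Monomial
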