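import Mathlib

/-!
Number theory for the exclusion step of S0484 (centralizer of an involution `GL₂(q)/Z`), case
`q ≡ 1 (mod 4)`.
-/

set_option autoImplicit false

namespace Cfsg.Agent.Classification.InvCentPL.NumW

/-- `N ∣ m` if `m` satisfies a monic quadratic equation relative to `N`. -/
theorem dvd_of_quadratic {m N b c : ℤ} (hN : N ≠ 0) (h : m ^ 2 + b * m * N + c * N ^ 2 = 0) :
    N ∣ m := by
  have hg : Int.gcd m N ≠ 0 := by
    intro h0
    exact hN (Int.gcd_eq_zero_iff.1 h0).2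
  obtain ⟨g, m', N', hgpos, hcop, hm, hN'⟩ : ∃ g m' N' : ℤ, g ≠ 0 ∧ IsCoprime m' N' ∧
      m = m' * g ∧ N = N' * g := by
    obtain ⟨m', N', hc, h1, h2⟩ := Int.exists_gcd_one (Nat.pos_of_ne_zero hg)
    exact ⟨(Int.gcd m N : ℤ), m', N', by exact_mod_cast hg, Int.isCoprime_iff_gcd_eq_one.2 hc,
      h1, h2⟩
  have h1 : m' ^ 2 + b * m' * N' + c * N' ^ 2 = 0 := by
    have : g ^ 2 * (m' ^ 2 + b * m' * N' + c * N' ^ 2) = 0 := by
      rw [← h, hm, hN']; ring
    rcases mul_eq_zero.1 this with h0 | h0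
    · exact absurd (pow_eq_zero_iff (two_ne_zero)|>.1 h0) hgpos
    · exact h0
  have h2 : N' ∣ m' ^ 2 := ⟨-(b * m' + c * N'), by linear_combination h1⟩
  have h3 : IsUnit N' := by
    have : IsCoprime (m' ^ 2) N' := hcop.pow_left
    exact this.symm.isUnit_of_dvd' dvd_rfl h2
  rw [hm, hN']
  obtain ⟨u, hu⟩ := h3
  exact mul_dvd_mul (hu ▸ (Units.isUnit u).dvd) dvd_rfl

/-- The parameter `k`. -/
theorem exists_k {q n f : ℤ} (hfq : f ≠ q)
    (h : n * (f - q) ^ 2 = q * (q - 1) * (q + 1) ^ 2 * f * (f - 1)) :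
    ∃ k : ℤ, k * (f - q) = q * (q ^ 2 - 1) ∧ n = (q ^ 2 - 1 + k) * (q ^ 2 + q + k) := by
  have hN : f - q ≠ 0 := sub_ne_zero.2 hfq
  obtain ⟨k, hk⟩ := dvd_of_quadratic (m := q * (q ^ 2 - 1)) (N := f - q) (b := 2 * q ^ 2 + q - 1)
    (c := (q ^ 2 - 1) * (q ^ 2 + q) - n) hN (by linear_combination -h)
  refine ⟨k, by rw [hk]; ring, ?_⟩
  have h1 : (f - q) ^ 2 * (n - (q ^ 2 - 1 + k) * (q ^ 2 + q + k)) = 0 := by
    have e1 : (f - q) ^ 2 * n = (q * (q ^ 2 - 1) + (q ^ 2 - 1) * (f - q)) *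
        (q * (q ^ 2 - 1) + (q ^ 2 + q) * (f - q)) := by linear_combination h
    rw [mul_sub, e1, hk]; ring
  rcases mul_eq_zero.1 h1 with h0 | h0
  · exact absurd (pow_eq_zero_iff two_ne_zero |>.1 h0) hN
  · linarith

/-- The common hypotheses. -/
structure Hyp (p v : ℕ) (q n : ℤ) (f : ℤ) : Prop where
  prime : p.Prime
  hq : q = (p : ℤ) ^ v
  hv : v ≠ 0
  four : q % 4 = 1
  n_pos : 0 < n
  n_odd : n % 2 = 1
  f_ge : q ≤ |f|
  eq : n * (f - q) ^ 2 = q * (q - 1) * (q + 1) ^ 2 * f * (f - 1)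
  cong : ∀ r : ℕ, r.Prime → r ≠ 2 → (r : ℤ) ∣ q + 1 → (r : ℤ) ∣ n - 1

variable {p v : ℕ} {q n f : ℤ}

theorem Hyp.five_le (h : Hyp p v q n f) : 5 ≤ q := by
  have h1 : 1 < q := by
    rw [h.hq]
    exact one_lt_pow₀ (by exact_mod_cast h.prime.one_lt) h.hv
  have := h.four
  omega

theorem Hyp.f_ne (h : Hyp p v q n f) : f ≠ q := by
  intro hf
  have h1 := h.eq
  have h2 := h.five_le
  rw [hf, sub_self] at h1
  have h3 : 0 < q * (q - 1) * (q + 1) ^ 2 * q * (q - 1) := by
    have a1 : 0 < q := by linarith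
    have a2 : 0 < q - 1 := by linarith
    have a3 : 0 < q + 1 := by linarith
    positivity
  linarith

/-- The parameter `k`: it is odd, and `q² - 1 + k > 0`. -/
theorem Hyp.exists_param (h : Hyp p v q n f) : ∃ k : ℤ, k % 2 = 1 ∧ k ∣ q * (q ^ 2 - 1) ∧
    0 < q ^ 2 - 1 + k ∧ n = (q ^ 2 - 1 + k) * (q ^ 2 + q + k) := by
  obtain ⟨k, hk, hn⟩ := exists_k h.f_ne h.eq
  have h5 := h.five_le
  have hodd : k % 2 = 1 := by
    have h1 := h.n_odd
    rw [hn, Int.mul_emod] at h1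
    have hq2 : (q ^ 2 - 1) % 2 = 0 := by
      have : q % 2 = 1 := by have := h.four; omega
      have e : q ^ 2 - 1 = (q - 1) * (q + 1) := by ring
      rw [e, Int.mul_emod]
      have : (q - 1) % 2 = 0 := by omega
      rw [this]; simp
    have h2 : (q ^ 2 - 1 + k) % 2 = 1 := by
      rcases Int.emod_two_eq_zero_or_one (q ^ 2 - 1 + k) with h0 | h0
      · rw [h0] at h1; simp at h1
      · exact h0
    omega
  refine ⟨k, hodd, ⟨f - q, hk.symm⟩, ?_, hn⟩
  by_contra hneg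
  push Not at hneg
  have hpos := h.n_pos
  rw [hn] at hpos
  have h1 : q ^ 2 - 1 + k < 0 := by
    rcases hneg.lt_or_eq with h0 | h0
    · exact h0
    · rw [h0, zero_mul] at hpos; exact absurd hpos (lt_irrefl _)
  have h2 : q ^ 2 + q + k < 0 := by
    by_contra hc
    push Not at hc
    nlinarith
  -- `k < -(q² + q)`
  have h3 : 0 < q * (q ^ 2 - 1) := by
    have a1 : 0 < q := by linarith
    have a2 : 0 < q ^ 2 - 1 := by nlinarith
    positivity
  have hk0 : k < 0 := by nlinarith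
  have h4 : f - q < 0 := by
    by_contra hc
    push Not at hc
    have : k * (f - q) ≤ 0 := mul_nonpos_of_nonpos_of_nonneg hk0.le hc
    linarith
  have h5' : -(q - 1) < f - q := by
    by_contra hc
    push Not at hc
    -- `k (f - q) ≥ (-(k)) (q-1) > (q²+q)(q-1)`
    have : (-k) * (q - 1) ≤ (-k) * (-(f - q)) := by
      apply mul_le_mul_of_nonneg_left (by linarith) (by linarith)
    nlinarith
  have h6 := h.f_ge
  rcases abs_cases f with ⟨h7, _⟩ | ⟨h7, _⟩ <;> rw [h7] at h6 <;> linarith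

theorem Hyp.q_pos (h : Hyp p v q n f) : 0 < q := by linarith [h.five_le]

/-- an integer prime to `p` is coprime to `q` -/
theorem Hyp.coprime_q (h : Hyp p v q n f) {a : ℤ} (ha : ¬ (p : ℤ) ∣ a) : IsCoprime a q := by
  rw [h.hq]
  exact ((Prime.coprime_iff_not_dvd (Nat.prime_iff_prime_int.1 h.prime)).2 ha).symm.pow_right

theorem Hyp.p_dvd_q (h : Hyp p v q n f) : (p : ℤ) ∣ q := by
  rw [h.hq]; exact dvd_pow_self _ h.hv

/-- `k` is coprime to `q + 1`. -/
theorem Hyp.coprime_add_one (h : Hyp p v q n f) {k : ℤ} (hodd : k % 2 = 1)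
    (hn : n = (q ^ 2 - 1 + k) * (q ^ 2 + q + k)) : IsCoprime k (q + 1) := by
  rw [Int.isCoprime_iff_gcd_eq_one]
  by_contra hg
  obtain ⟨r, hr, hrg⟩ := Nat.exists_prime_and_dvd hg
  have h1 : (r : ℤ) ∣ k := (Int.natCast_dvd_natCast.2 hrg).trans (Int.gcd_dvd_left ..)
  have h2 : (r : ℤ) ∣ q + 1 := (Int.natCast_dvd_natCast.2 hrg).trans (Int.gcd_dvd_right ..)
  have hr2 : r ≠ 2 := by
    rintro rfl
    have : (2 : ℤ) ∣ k := by exact_mod_cast h1
    omega
  have h3 := h.cong r hr hr2 h2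
  have h4 : (r : ℤ) ∣ n := by
    rw [hn]
    have : (r : ℤ) ∣ q ^ 2 - 1 + k := by
      have e : q ^ 2 - 1 + k = (q + 1) * (q - 1) + k := by ring
      rw [e]
      exact dvd_add (h2.mul_right _) h1
    exact this.mul_right _
  have h5 : (r : ℤ) ∣ 1 := by
    have := dvd_sub h4 h3
    simpa using this
  have := Int.natCast_dvd_natCast.1 (by exact_mod_cast h5 : (r : ℤ) ∣ ((1 : ℕ) : ℤ))
  exact hr.one_lt.ne' (Nat.dvd_one.1 this)

/-- An odd divisor of `q - 1` is at most `(q - 1) / 4` in absolute value. -/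
theorem Hyp.four_mul_abs_le (h : Hyp p v q n f) {k : ℤ} (hodd : k % 2 = 1) (hk : k ∣ q - 1) :
    4 * |k| ≤ q - 1 := by
  have h5 := h.five_le
  obtain ⟨c, hc⟩ := hk
  have h4 : (4 : ℤ) ∣ c := by
    have h1 : (4 : ℤ) ∣ k * c := by
      rw [← hc]; have := h.four; omega
    have h2 : IsCoprime (4 : ℤ) k := by
      have h3 : IsCoprime (2 : ℤ) k := by
        rw [Int.isCoprime_iff_gcd_eq_one, Int.gcd_comm]
        have : ¬ (2 : ℤ) ∣ k := by omega
        exact Int.isCoprime_iff_gcd_eq_one.1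
          ((Prime.coprime_iff_not_dvd Int.prime_two).2 this).symm
      have : (4 : ℤ) = 2 ^ 2 := by norm_num
      rw [this]
      exact h3.pow_left
    exact h2.dvd_of_dvd_mul_left h1
  obtain ⟨d, rfl⟩ := h4
  have hd : d ≠ 0 := by
    rintro rfl
    simp at hc
    omega
  have h6 : |q - 1| = |k| * (4 * |d|) := by
    rw [hc, abs_mul, abs_mul]; norm_num
  rw [abs_of_pos (by linarith : 0 < q - 1)] at h6
  have h7 : 1 ≤ |d| := Int.one_le_abs hd
  nlinarith [abs_nonneg k]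

/-- **Case (a)** is impossible. -/
theorem Hyp.caseA (h : Hyp p v q n f) (hp : ¬ (p : ℤ) ∣ n) (hs : q ∣ n * (q + 1) - 1) : False := by
  obtain ⟨k, hodd, hdvd, hpos, hn⟩ := h.exists_param
  have h5 := h.five_le
  have hpq := h.p_dvd_q
  have hpk : ¬ (p : ℤ) ∣ k := by
    intro hk
    apply hp
    rw [hn]
    have : (p : ℤ) ∣ q ^ 2 + q + k := by
      have e : q ^ 2 + q + k = q * (q + 1) + k := by ring
      rw [e]; exact dvd_add (hpq.mul_right _) hk
    exact this.mul_left _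
  have hpk1 : ¬ (p : ℤ) ∣ k - 1 := by
    intro hk
    apply hp
    rw [hn]
    have : (p : ℤ) ∣ q ^ 2 - 1 + k := by
      have e : q ^ 2 - 1 + k = q * q + (k - 1) := by ring
      rw [e]; exact dvd_add (hpq.mul_right _) hk
    exact this.mul_right _
  have hcq : IsCoprime k q := h.coprime_q hpk
  have hk1 : k ∣ q ^ 2 - 1 := hcq.dvd_of_dvd_mul_left hdvd
  have hk2 : k ∣ q - 1 := by
    have h1 : k ∣ (q + 1) * (q - 1) := by
      have e : (q + 1) * (q - 1) = q ^ 2 - 1 := by ring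
      rwa [e]
    exact (h.coprime_add_one hodd hn).dvd_of_dvd_mul_left h1
  have hle := h.four_mul_abs_le hodd hk2
  obtain ⟨c, hc⟩ := hk2
  -- `q ∣ k (k - 1) - 1`
  have h6 : q ∣ k * (k - 1) - 1 := by
    have e : n * (q + 1) - 1 = q * (q^4 + 2*q^3 + 2*k*q^2 + 3*k*q - 2*q + k^2 - 1) +
      (k * (k - 1) - 1) := by rw [hn]; ring
    rw [e] at hs
    exact (dvd_add_right (dvd_mul_right _ _)).1 hs
  have h7 : q ∣ c + k - 1 := by
    have h8 : q ∣ k * (c + k - 1) := by
      have e : k * (c + k - 1) = q + (k * (k - 1) - 1) := by linear_combination -hc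
      rw [e]; exact dvd_add dvd_rfl h6
    exact hcq.symm.dvd_of_dvd_mul_left h8
  have hk0 : k ≠ 0 := by rintro rfl; simp at hodd
  have hc0 : c ≠ 0 := by rintro rfl; simp at hc; omega
  have habs : |k| * |c| = q - 1 := by
    rw [← abs_mul, ← hc, abs_of_pos (by linarith)]
  have hka : 1 ≤ |k| := Int.one_le_abs hk0
  have hca : 4 ≤ |c| := by
    by_contra hlt
    push Not at hlt
    nlinarith [abs_nonneg c]
  rcases hka.lt_or_eq with hk3 | hk3
  · -- `|k| ≥ 2`
    have h9 : |k| + |c| ≤ q - 3 := by nlinarith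
    have h10 : |c + k - 1| < q := by
      calc |c + k - 1| ≤ |c| + |k| + 1 := by
            have a1 := abs_add_le (c + k) (-1)
            have a2 := abs_add_le c k
            simp only [abs_neg, abs_one] at a1
            have e : c + k - 1 = c + k + -1 := by ring
            rw [e]; linarith
        _ < q := by linarith
    have h11 : c + k - 1 = 0 := by
      by_contra hne
      have := Int.le_of_dvd (abs_pos.2 hne) ((dvd_abs _ _).2 h7)
      linarith
    have hc' : c = 1 - k := by linarith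
    rw [hc'] at hc
    have : 0 < k * (1 - k) := by linarith
    have h12 : k * (1 - k) ≤ 0 := by
      rcases le_or_gt k 0 with h0 | h0
      · nlinarith
      · nlinarith [Int.add_one_le_iff.2 h0]
    linarith
  · -- `|k| = 1`
    rcases (abs_eq (by norm_num : (0 : ℤ) ≤ 1)).1 hk3.symm with hk4 | hk4
    · apply hpk1
      rw [hk4]; simp
    · rw [hk4] at hc h7
      have hc' : c = 1 - q := by linarith
      rw [hc'] at h7
      have h13 : q ∣ 1 := by
        have e : (1 : ℤ) = - (1 - q + -1 - 1) - q := by ring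
        rw [e]
        exact dvd_sub (dvd_neg.2 h7) dvd_rfl
      have := Int.le_of_dvd one_pos h13
      linarith

/-- For `p ∤ k`: `k ∣ q - 1`. -/
theorem Hyp.dvd_sub_one (h : Hyp p v q n f) {k : ℤ} (hodd : k % 2 = 1)
    (hn : n = (q ^ 2 - 1 + k) * (q ^ 2 + q + k)) (hk : k ∣ q ^ 2 - 1) : k ∣ q - 1 := by
  have h1 : k ∣ (q + 1) * (q - 1) := by
    have e : (q + 1) * (q - 1) = q ^ 2 - 1 := by ring
    rwa [e]
  exact (h.coprime_add_one hodd hn).dvd_of_dvd_mul_left h1

/-- The two possibilities if `q ∣ n`. -/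
theorem Hyp.split (h : Hyp p v q n f) (hq : q ∣ n) :
    n = q ^ 2 * (q ^ 2 + q + 1) ∨ ∃ k : ℤ, k % 2 = 1 ∧ k ∣ q - 1 ∧ 4 * |k| ≤ q - 1 ∧
      n = q * ((q ^ 2 - 1 + q * k) * (q + 1 + k)) := by
  obtain ⟨k, hodd, hdvd, hpos, hn⟩ := h.exists_param
  have h5 := h.five_le
  have hpq := h.p_dvd_q
  by_cases hpk : (p : ℤ) ∣ k
  · right
    have h1 : IsCoprime (q ^ 2 - 1 + k) q := by
      apply h.coprime_q
      intro h2
      have h3 : (p : ℤ) ∣ 1 := by
        have e : (1 : ℤ) = q * q + k - (q ^ 2 - 1 + k) := by ring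
        rw [e]
        exact dvd_sub (dvd_add (hpq.mul_right _) hpk) h2
      have := Int.natCast_dvd_natCast.1 (by exact_mod_cast h3 : (p : ℤ) ∣ ((1 : ℕ) : ℤ))
      exact h.prime.one_lt.ne' (Nat.dvd_one.1 this)
    have h2 : q ∣ q ^ 2 + q + k := by
      rw [hn] at hq
      exact h1.symm.dvd_of_dvd_mul_left hq
    have h3 : q ∣ k := by
      have e : k = (q ^ 2 + q + k) - q * (q + 1) := by ring
      rw [e]; exact dvd_sub h2 (dvd_mul_right _ _)
    obtain ⟨k', rfl⟩ := h3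
    have hq0 : q ≠ 0 := by linarith
    have h4 : k' ∣ q ^ 2 - 1 := by
      obtain ⟨c, hc⟩ := hdvd
      refine ⟨c, mul_left_cancel₀ hq0 (by rw [hc]; ring)⟩
    have hk'odd : k' % 2 = 1 := by
      rcases Int.emod_two_eq_zero_or_one k' with h0 | h0
      · rw [Int.mul_emod, h0] at hodd; simp at hodd
      · exact h0
    have h6 : k' ∣ q - 1 := by
      have h7 : IsCoprime k' (q + 1) := (h.coprime_add_one hodd hn).of_mul_left_right
      have h8 : k' ∣ (q + 1) * (q - 1) := by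
        have e : (q + 1) * (q - 1) = q ^ 2 - 1 := by ring
        rwa [e]
      exact h7.dvd_of_dvd_mul_left h8
    exact ⟨k', hk'odd, h6, h.four_mul_abs_le hk'odd h6, by rw [hn]; ring⟩
  · left
    have hk1 : k ∣ q ^ 2 - 1 := (h.coprime_q hpk).dvd_of_dvd_mul_left hdvd
    have hk2 := h.dvd_sub_one hodd hn hk1
    have hle := h.four_mul_abs_le hodd hk2
    have h1 : IsCoprime (q ^ 2 + q + k) q := by
      apply h.coprime_q
      intro h2
      apply hpk
      have e : k = (q ^ 2 + q + k) - q * (q + 1) := by ring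
      rw [e]; exact dvd_sub h2 (hpq.mul_right _)
    have h2 : q ∣ q ^ 2 - 1 + k := by
      rw [hn] at hq
      exact h1.symm.dvd_of_dvd_mul_right hq
    have h3 : q ∣ k - 1 := by
      have e : k - 1 = (q ^ 2 - 1 + k) - q * q := by ring
      rw [e]; exact dvd_sub h2 (dvd_mul_right _ _)
    have h4 : k - 1 = 0 := by
      by_contra hne
      have h6 := Int.le_of_dvd (abs_pos.2 hne) ((dvd_abs _ _).2 h3)
      have h7 := abs_add_le k (-1)
      simp only [abs_neg, abs_one] at h7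
      have e : k - 1 = k + -1 := by ring
      rw [e] at h6
      linarith
    have h5 : k = 1 := by linarith
    rw [hn, h5]; ring

/-- **Case (d)**: `q² ∣ n`. -/
theorem Hyp.caseD (h : Hyp p v q n f) (hq : q ^ 2 ∣ n) :
    n = q ^ 2 * (q ^ 2 + q + 1) ∨ n = q ^ 2 * (q ^ 2 - q - 1) := by
  have h5 := h.five_le
  have hq0 : q ≠ 0 := by linarith
  rcases h.split ((dvd_pow_self q two_ne_zero).trans hq) with h1 | ⟨k, hodd, hk, hle, hn⟩
  · exact Or.inl h1
  · right
    have hpq := h.p_dvd_q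
    have h2 : q ∣ (q ^ 2 - 1 + q * k) * (q + 1 + k) := by
      have hq' : q * q ∣ q * ((q ^ 2 - 1 + q * k) * (q + 1 + k)) := by
        rw [← hn, ← pow_two]; exact hq
      exact (mul_dvd_mul_iff_left hq0).1 hq'
    have h3 : IsCoprime (q ^ 2 - 1 + q * k) q := ⟨-1, q + k, by ring⟩
    have h4 : q ∣ q + 1 + k := h3.symm.dvd_of_dvd_mul_left h2
    have h6 : q ∣ 1 + k := by
      have e : 1 + k = (q + 1 + k) - q := by ring
      rw [e]; exact dvd_sub h4 dvd_rfl
    have h7 : 1 + k = 0 := by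
      by_contra hne
      have h8 := Int.le_of_dvd (abs_pos.2 hne) ((dvd_abs _ _).2 h6)
      have h9 := abs_add_le 1 k
      simp only [abs_one] at h9
      linarith
    have h8 : k = -1 := by linarith
    rw [hn, h8]; ring

/-- `q + 1` has an odd prime divisor. -/
theorem Hyp.exists_odd_prime (h : Hyp p v q n f) : ∃ r : ℕ, r.Prime ∧ r ≠ 2 ∧ (r : ℤ) ∣ q + 1 := by
  have h5 := h.five_le
  have h4 := h.four
  obtain ⟨m, hm⟩ : ∃ m : ℤ, q + 1 = 2 * m := ⟨(q + 1) / 2, by omega⟩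
  have hm1 : m % 2 = 1 := by omega
  have hm3 : 3 ≤ m := by omega
  have hne : m.natAbs ≠ 1 := by omega
  obtain ⟨r, hr, hrm⟩ := Nat.exists_prime_and_dvd hne
  have hrm' : (r : ℤ) ∣ m := Int.natCast_dvd.2 hrm
  refine ⟨r, hr, ?_, hm ▸ hrm'.mul_left _⟩
  rintro rfl
  have : (2 : ℤ) ∣ m := by exact_mod_cast hrm'
  omega

/-- **Case (c)** is impossible. -/
theorem Hyp.caseC (h : Hyp p v q n f) {n' m s : ℤ} (hn' : n = q * n') (hp : ¬ (p : ℤ) ∣ n')
    (hs : q ∣ s - 1) (hms : m * s = n' * (q + 1)) (hm : m = 2 ∨ (q = 5 ∧ m = 6)) : False := by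
  have h5 := h.five_le
  have hq0 : q ≠ 0 := by linarith
  rcases h.split ⟨n', hn'⟩ with h1 | ⟨k, hodd, hk, hle, hn⟩
  · apply hp
    have e : n' = q * (q ^ 2 + q + 1) := by
      apply mul_left_cancel₀ hq0
      rw [← hn', h1]; ring
    rw [e]; exact h.p_dvd_q.mul_right _
  · have e : n' = (q ^ 2 - 1 + q * k) * (q + 1 + k) := mul_left_cancel₀ hq0 (by rw [← hn', hn])
    -- `q ∣ m + 1 + k`
    have h2 : q ∣ m + 1 + k := by
      obtain ⟨c, hc⟩ := hs
      have hs' : s = 1 + q * c := by linarith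
      rw [hs', e] at hms
      refine ⟨-(m * c) + (q ^ 3 + 2 * q ^ 2 + 2 * k * q ^ 2 + (3 * k + k ^ 2) * q + k ^ 2 - 2), ?_⟩
      linear_combination hms
    rcases hm with hm | ⟨hq5, hm⟩
    · have h3 : q ∣ k + 3 := by
        have e3 : k + 3 = m + 1 + k := by rw [hm]; ring
        rw [e3]; exact h2
      have h4 : k + 3 = 0 := by
        by_contra hne
        have h8 := Int.le_of_dvd (abs_pos.2 hne) ((dvd_abs _ _).2 h3)
        have h9 := abs_add_le k 3
        have : |(3 : ℤ)| = 3 := by norm_num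
        rw [this] at h9
        linarith
      have hk3 : k = -3 := by linarith
      obtain ⟨r, hr, hr2, hrq⟩ := h.exists_odd_prime
      have h6 := h.cong r hr hr2 hrq
      have h7 : (r : ℤ) ∣ 8 := by
        have e8 : (8 : ℤ) = (n - 1) - (q + 1) * (q ^ 3 - 6 * q ^ 2 + 11 * q - 9) := by
          rw [hn, hk3]; ring
        rw [e8]
        exact dvd_sub h6 (hrq.mul_right _)
      have h8 : r ∣ 2 ^ 3 := by exact_mod_cast h7
      have h9 := hr.dvd_of_dvd_pow h8
      exact hr2 ((Nat.prime_dvd_prime_iff_eq hr Nat.prime_two).1 h9)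
    · subst hq5
      rw [hm] at h2
      have h3 : |k| ≤ 1 := by linarith
      have h4 := abs_le.1 h3
      omega

end Cfsg.Agent.Classification.InvCentPL.NumW
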