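import Cfsg.Agent.Classification.IdL3.SetupTwo
import Mathlib.LinearAlgebra.Matrix.GeneralLinearGroup.Card

/-!
Orders of the torus `Ht φ` and of the centralizer of `tt φ`.
-/

set_option autoImplicit false
set_option linter.unusedSimpArgs false

namespace Cfsg.Agent.Classification.InvCentPL.QDCards

open Matrix
open scoped MatrixGroups
open Cfsg.Agent.Classification.IdL3.Mat
open Cfsg.Agent.Classification.IdL3.MatTwo
open Cfsg.Agent.Classification.IdL3.Setup
open Cfsg.Agent.Classification.IdL3.SetupTwo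

variable {F : Type*} [Field F] {G : Type*} [Group G] {φ : GL (Fin 2) F →* G} {n : G}

theorem card_Tsub : Nat.card (Tsub F) = Nat.card Fˣ * Nat.card Fˣ := by
  rw [← Nat.card_prod]
  symm
  refine Nat.card_congr (Equiv.ofBijective (fun x : Fˣ × Fˣ => (⟨T x.1 x.2, x.1, x.2, rfl⟩ : Tsub F))
    ⟨?_, ?_⟩)
  · rintro ⟨a, b⟩ ⟨a', b'⟩ h
    have h0 := congrArg Subtype.val h
    have h1 := congrArg (fun k : GL (Fin 2) F => k.1 0 0) h0
    have h2 := congrArg (fun k : GL (Fin 2) F => k.1 1 1) h0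
    simp only [T_00, T_11] at h1 h2
    exact Prod.ext (Units.ext h1) (Units.ext h2)
  · rintro ⟨_, a, b, rfl⟩
    exact ⟨(a, b), rfl⟩

/-- order of an image of a subgroup containing the kernel. -/
theorem card_map_mul_ker {A B : Type*} [Group A] [Group B] (f : A →* B) (K : Subgroup A)
    (h : f.ker ≤ K) : Nat.card (K.map f) * Nat.card f.ker = Nat.card K := by
  have h1 : Nat.card (f.comp K.subtype).ker = Nat.card f.ker :=
    Nat.card_congr ⟨fun x => ⟨x.1, x.2⟩, fun x => ⟨⟨x.1, h x.2⟩, x.2⟩, fun _ => rfl, fun _ => rfl⟩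
  have h2 : Nat.card (K.map f) = Nat.card (f.comp K.subtype).range := by
    rw [MonoidHom.range_comp, Subgroup.range_subtype]
  rw [← h1, h2, mul_comm]
  have h3 := Subgroup.card_mul_index (f.comp K.subtype).ker
  rw [← h3, Subgroup.index_ker]

variable (hH : Hyp φ n)
include hH

theorem card_Ht_mul [Finite F] : Nat.card (Ht φ) * Nat.card φ.ker =
    (Nat.card F - 1) * (Nat.card F - 1) := by
  rw [Ht, card_map_mul_ker φ (Tsub F), card_Tsub, Nat.card_units]
  intro g hg
  obtain ⟨a, rfl⟩ := hH.ker_T hg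
  exact ⟨a, a, rfl⟩

theorem range_eq : φ.range = Subgroup.centralizer {tt φ} := by
  ext g
  rw [Subgroup.mem_centralizer_singleton_iff]
  constructor
  · rintro ⟨x, rfl⟩
    exact tt_comm x
  · intro h
    obtain ⟨x, hx⟩ := hH.cent g h
    exact ⟨x, hx⟩

theorem card_C_mul [Finite F] : Nat.card (Subgroup.centralizer {tt φ}) * Nat.card φ.ker =
    (Nat.card F ^ 2 - 1) * (Nat.card F ^ 2 - Nat.card F) := by
  have h1 : Nat.card (GL (Fin 2) F) = (Nat.card F ^ 2 - 1) * (Nat.card F ^ 2 - Nat.card F) := by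
    have := Fintype.ofFinite F
    classical
    rw [Matrix.card_GL_field, Nat.card_eq_fintype_card]
    simp [Fin.prod_univ_two]
  rw [← range_eq hH, ← h1, MonoidHom.range_eq_map, card_map_mul_ker φ ⊤ le_top, Subgroup.card_top]

/-- `|C(t)| = |Ht| q (q + 1)` -/
theorem card_C [Finite F] : Nat.card (Subgroup.centralizer {tt φ}) =
    Nat.card (Ht φ) * (Nat.card F * (Nat.card F + 1)) := by
  have h1 := card_C_mul hH
  have h2 := card_Ht_mul hH
  have hq : 1 < Nat.card F := Finite.one_lt_card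
  obtain ⟨m, hm⟩ : ∃ m, Nat.card F = m + 1 := ⟨Nat.card F - 1, by omega⟩
  have h3 : 0 < Nat.card φ.ker := by
    have : Finite φ.ker := Subgroup.instFiniteSubtypeMem φ.ker
    exact Nat.card_pos
  apply Nat.eq_of_mul_eq_mul_right h3
  rw [h1, mul_right_comm, h2, hm]
  have e1 : (m + 1) ^ 2 - 1 = m * (m + 2) := by
    rw [Nat.sub_eq_iff_eq_add (Nat.one_le_pow _ _ (by omega))]; ring
  have e2 : (m + 1) ^ 2 - (m + 1) = (m + 1) * m := by
    rw [Nat.sub_eq_iff_eq_add (Nat.le_self_pow (by omega) _)]; ring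
  rw [e1, e2, Nat.add_sub_cancel]
  ring

end Cfsg.Agent.Classification.InvCentPL.QDCards
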