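import Cfsg.Agent.Characters.Core

/-!
Nonnegativity of dimensions of fixed spaces of subgroups, in terms of character values.
-/

set_option autoImplicit false

namespace Cfsg.Agent.Classification.InvCentPL.QDChar

open Cfsg Representation Module

variable {G : Type*} [Group G]

theorem avg [Finite G] {V : Type*} [AddCommGroup V] [Module ℂ V] [FiniteDimensional ℂ V]
    (ρ : Representation ℂ G V) (H : Subgroup G) [Fintype H] :
    (Nat.card H : ℂ)⁻¹ * ∑ h : H, ρ.character h =
      (finrank ℂ (invariants (ρ.comp H.subtype)) : ℂ) := by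
  have : Invertible (Nat.card H : ℂ) := invertibleOfNonzero (by
    exact_mod_cast (Nat.card_pos (α := H)).ne')
  rw [← card_inv_mul_sum_char_eq_finrank]
  rfl

theorem mono {V : Type*} [AddCommGroup V] [Module ℂ V] [FiniteDimensional ℂ V]
    (ρ : Representation ℂ G V) {H K : Subgroup G} (h : H ≤ K) :
    finrank ℂ (invariants (ρ.comp K.subtype)) ≤ finrank ℂ (invariants (ρ.comp H.subtype)) := by
  apply Submodule.finrank_mono
  intro v hv g
  exact hv ⟨g, h g.2⟩

/-- Two inequalities for a character with few nonzero values on `H ≤ K`. -/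
theorem two_ineq [Finite G] {χ : G → ℂ} (hχ : IsCharacter G χ) {H K : Subgroup G} (hHK : H ≤ K)
    {t : G} (ht : t ∈ H) (ht1 : t ≠ 1) (d c : ℤ) (hd : χ 1 = d) (hc : χ t = c)
    (hz : ∀ h ∈ H, h ≠ 1 → h ≠ t → χ h = 0) (hK : ∀ h ∈ K, h ∉ H → χ h = c) :
    (Nat.card H : ℤ) * (d + c + ((Nat.card K : ℤ) - Nat.card H) * c) ≤ Nat.card K * (d + c) ∧
      0 ≤ d + c + ((Nat.card K : ℤ) - Nat.card H) * c := by
  classical
  have := Fintype.ofFinite G
  obtain ⟨n, ρ, rfl⟩ := hχ
  have hS : ∀ L : Subgroup G, ∑ h : L, ρ.character h = ∑ g ∈ Finset.univ.filter (· ∈ L), ρ.character g := by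
    intro L
    rw [Finset.sum_subtype (Finset.univ.filter (· ∈ L)) (p := (· ∈ L)) (by intro x; simp)]
  have hcard : ∀ L : Subgroup G, (Finset.univ.filter (· ∈ L)).card = Nat.card L := by
    intro L
    rw [Nat.card_eq_fintype_card, Fintype.card_subtype]
  have h1 : ∑ g ∈ Finset.univ.filter (· ∈ H), ρ.character g = (d : ℂ) + c := by
    have hsub : ({1, t} : Finset G) ⊆ Finset.univ.filter (· ∈ H) := by
      intro x hx
      rw [Finset.mem_insert, Finset.mem_singleton] at hx
      rw [Finset.mem_filter]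
      refine ⟨Finset.mem_univ _, ?_⟩
      rcases hx with rfl | rfl
      · exact H.one_mem
      · exact ht
    rw [← Finset.sum_subset hsub]
    · rw [Finset.sum_pair ht1.symm, hd, hc]
    · intro x hx hx'
      rw [Finset.mem_filter] at hx
      rw [Finset.mem_insert, Finset.mem_singleton, not_or] at hx'
      exact hz x hx.2 hx'.1 hx'.2
  have h2 : ∑ g ∈ Finset.univ.filter (· ∈ K), ρ.character g =
      (d : ℂ) + c + ((Nat.card K : ℂ) - Nat.card H) * c := by
    have hsub : Finset.univ.filter (· ∈ H) ⊆ Finset.univ.filter (· ∈ K) := by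
      intro x hx
      rw [Finset.mem_filter] at hx ⊢
      exact ⟨hx.1, hHK hx.2⟩
    rw [← Finset.sum_sdiff hsub, h1]
    have h3 : ∑ g ∈ Finset.univ.filter (· ∈ K) \ Finset.univ.filter (· ∈ H), ρ.character g =
        ((Nat.card K : ℂ) - Nat.card H) * c := by
      rw [Finset.sum_congr rfl (g := fun _ => (c : ℂ))]
      · rw [Finset.sum_const, nsmul_eq_mul, Finset.card_sdiff_of_subset hsub, hcard, hcard,
          Nat.cast_sub (Nat.card_le_card_of_injective _ (Subgroup.inclusion_injective hHK))]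
      · intro x hx
        rw [Finset.mem_sdiff, Finset.mem_filter, Finset.mem_filter] at hx
        exact hK x hx.1.2 fun h => hx.2 ⟨Finset.mem_univ _, h⟩
    rw [h3]
    ring
  have e1 := avg ρ H
  have e2 := avg ρ K
  have e3 := mono ρ hHK
  rw [hS, h1] at e1
  rw [hS, h2] at e2
  set a := finrank ℂ (invariants (ρ.comp H.subtype))
  set b := finrank ℂ (invariants (ρ.comp K.subtype))
  have hH0 : (Nat.card H : ℂ) ≠ 0 := by exact_mod_cast (Nat.card_pos (α := H)).ne'
  have hK0 : (Nat.card K : ℂ) ≠ 0 := by exact_mod_cast (Nat.card_pos (α := K)).ne'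
  have f1 : (d : ℂ) + c = Nat.card H * a := by rw [← e1, mul_inv_cancel_left₀ hH0]
  have f2 : (d : ℂ) + c + ((Nat.card K : ℂ) - Nat.card H) * c = Nat.card K * b := by
    rw [← e2, mul_inv_cancel_left₀ hK0]
  have g1 : d + c = Nat.card H * a := by exact_mod_cast f1
  have g2 : d + c + ((Nat.card K : ℤ) - Nat.card H) * c = Nat.card K * b := by exact_mod_cast f2
  constructor
  · rw [g2, g1]
    have : (b : ℤ) ≤ a := by exact_mod_cast e3
    have h4 : (0 : ℤ) ≤ Nat.card H * Nat.card K := by positivity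
    nlinarith
  · rw [g2]
    positivity

end Cfsg.Agent.Classification.InvCentPL.QDChar
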