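import Mathlib

/-!
The numerical end of the case where a Sylow `p`-subgroup has order `q`.
-/

set_option autoImplicit false

namespace Cfsg.Agent.Classification.InvCentPL.QDNumA

theorem num_A {q k f x : ℤ} (hq : 3 ≤ q) (hq4 : q % 4 = 3) (hk : Odd k) (hk1 : k ∣ q ^ 2 - 1)
    (hf : f * k = q * (q ^ 2 - 1 + k)) (hx : x * (q + 1 - k) = -(q * (q ^ 2 + q + k)))
    (h2 : (0 < f ∧ 2 * q ^ 2 ≤ f + q) ∨ (f < 0 ∧ 2 * q ^ 2 + q ≤ -f))
    (h4 : (0 < x ∧ 2 * q ^ 2 ≤ x + q) ∨ (x < 0 ∧ 2 * q ^ 2 + q ≤ -x)) : False := by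
  have hq0 : 0 < q := by linarith
  have hk0 : k ≠ 0 := by
    rintro rfl
    exact absurd hk (by decide)
  have hpos : (0 : ℤ) < q ^ 2 - 1 := by nlinarith
  have hlow : -(q ^ 2 - 1) ≤ k := by
    have := Int.le_of_dvd hpos ((neg_dvd).mpr hk1)
    linarith
  -- bounds on k
  have hb : 2 * k ≤ q + 1 ∧ -(q - 1) ≤ 2 * k := by
    rcases h2 with ⟨hfp, h2⟩ | ⟨hfn, h2⟩
    · have hkp : 0 < k := by
        by_contra hneg
        have hneg' : k < 0 := lt_of_le_of_ne (not_lt.mp hneg) hk0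
        have h5 : f * k < 0 := mul_neg_of_pos_of_neg hfp hneg'
        have h6 : 0 ≤ q * (q ^ 2 - 1 + k) := mul_nonneg hq0.le (by linarith)
        linarith
      have h5 : 2 * q ^ 2 * k ≤ (f + q) * k := mul_le_mul_of_nonneg_right h2 hkp.le
      have h6 : (f + q) * k = q * (q ^ 2 - 1 + 2 * k) := by linear_combination hf
      rw [h6] at h5
      have h7 : q * (2 * q * k) ≤ q * (q ^ 2 - 1 + 2 * k) := by linarith
      have h8 : 2 * q * k ≤ q ^ 2 - 1 + 2 * k := le_of_mul_le_mul_left h7 hq0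
      have h9 : (q - 1) * (2 * k) ≤ (q - 1) * (q + 1) := by linarith
      have h10 := le_of_mul_le_mul_left h9 (by linarith)
      exact ⟨h10, by linarith⟩
    · have hkn : k < 0 := by
        by_contra hneg
        have hneg' : 0 < k := lt_of_le_of_ne (not_lt.mp hneg) hk0.symm
        have h5 : f * k < 0 := mul_neg_of_neg_of_pos hfn hneg'
        have h6 : 0 ≤ q * (q ^ 2 - 1 + k) := mul_nonneg hq0.le (by linarith)
        linarith
      have h5 : (2 * q ^ 2 + q) * (-k) ≤ (-f) * (-k) :=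
        mul_le_mul_of_nonneg_right h2 (by linarith)
      have h6 : (-f) * (-k) = q * (q ^ 2 - 1 + k) := by linear_combination hf
      rw [h6] at h5
      have h7 : q * ((2 * q + 1) * (-k)) ≤ q * (q ^ 2 - 1 + k) := by linarith
      have h8 := le_of_mul_le_mul_left h7 hq0
      have h9 : (q + 1) * (-(2 * k)) ≤ (q + 1) * (q - 1) := by linarith
      have h10 := le_of_mul_le_mul_left h9 (by linarith)
      exact ⟨by linarith, by linarith⟩
  obtain ⟨hb1, hb2⟩ := hb
  have hD : 0 < q + 1 - k := by linarith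
  have hN : 0 < q ^ 2 + q + k := by nlinarith
  rcases h4 with ⟨hxp, _⟩ | ⟨hxn, h4⟩
  · have h5 : 0 < x * (q + 1 - k) := mul_pos hxp hD
    have h6 : 0 < q * (q ^ 2 + q + k) := mul_pos hq0 hN
    linarith
  · have h5 : (2 * q ^ 2 + q) * (q + 1 - k) ≤ (-x) * (q + 1 - k) :=
      mul_le_mul_of_nonneg_right h4 hD.le
    have h6 : (-x) * (q + 1 - k) = q * (q ^ 2 + q + k) := by linear_combination -hx
    rw [h6] at h5
    have h7 : q * ((2 * q + 1) * (q + 1 - k)) ≤ q * (q ^ 2 + q + k) := by linarith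
    have h8 := le_of_mul_le_mul_left h7 hq0
    have h9 : (q + 1) * (q + 1) ≤ (q + 1) * (2 * k) := by linarith
    have h10 := le_of_mul_le_mul_left h9 (by linarith)
    have h11 : 2 * k = q + 1 := le_antisymm hb1 h10
    obtain ⟨j, hj⟩ := hk
    omega

end Cfsg.Agent.Classification.InvCentPL.QDNumA
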