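import Cfsg.Agent.Classification.IdL3.SetupTwo
import Cfsg.Agent.Classification.InvCentPL.QDChar
import Cfsg.Agent.Classification.InvCentPL.QDNumA
import Cfsg.Agent.Classification.InvCent.NumCases
import Cfsg.Agent.Characters.DefectZero

/-!
The case where `A φ` is a Sylow `p`-subgroup of `G`, `q = 3 mod 4`: two characters of `p`-defect zero
contradict the order formula.
-/

set_option autoImplicit false
set_option linter.unusedSimpArgs false

namespace Cfsg.Agent.Classification.InvCentPL.QDCaseA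

open Matrix Cfsg
open scoped MatrixGroups
open Cfsg.Agent.Classification.IdL3.Mat
open Cfsg.Agent.Classification.IdL3.MatTwo
open Cfsg.Agent.Classification.IdL3.Setup
open Cfsg.Agent.Classification.IdL3.SetupTwo

variable {F : Type*} [Field F] {G : Type*} [Group G] {φ : GL (Fin 2) F →* G} {n : G}

theorem UT_mul (c c' : F) (a b a' b' : Fˣ) : U c * T a b * (U c' * T a' b') =
    U (c + a * c' * ((b⁻¹ : Fˣ) : F)) * T (a * a') (b * b') := by
  have h := T_U a b c'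
  calc U c * T a b * (U c' * T a' b') = U c * (T a b * U c' * (T a b)⁻¹) * (T a b * T a' b') := by
        group
    _ = _ := by rw [h, T_mul, U_mul]

/-- The subgroup `X V` of `GL₂(F)`. -/
def KV (F : Type*) [Field F] : Subgroup (GL (Fin 2) F) where
  carrier := {g | ∃ (c : F) (a b : Fˣ), a * a = 1 ∧ b * b = 1 ∧ g = U c * T a b}
  mul_mem' := by
    rintro _ _ ⟨c, a, b, ha, hb, rfl⟩ ⟨c', a', b', ha', hb', rfl⟩
    refine ⟨_, _, _, ?_, ?_, UT_mul c c' a b a' b'⟩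
    · rw [mul_mul_mul_comm, ha, ha', one_mul]
    · rw [mul_mul_mul_comm, hb, hb', one_mul]
  one_mem' := ⟨0, 1, 1, one_mul _, one_mul _, by rw [U_zero, T_one, one_mul]⟩
  inv_mem' := by
    rintro _ ⟨c, a, b, ha, hb, rfl⟩
    refine ⟨-(a * c * ((b⁻¹ : Fˣ) : F)), a, b, ha, hb, ?_⟩
    rw [inv_eq_iff_mul_eq_one, UT_mul]
    have h1 : (a : F) * a = 1 := by rw [← Units.val_mul, ha, Units.val_one]
    have h2 : ((b⁻¹ : Fˣ) : F) * ((b⁻¹ : Fˣ) : F) = 1 := by
      rw [← Units.val_mul, ← mul_inv, hb, inv_one, Units.val_one]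
    have h3 : c + a * -(a * c * ((b⁻¹ : Fˣ) : F)) * ((b⁻¹ : Fˣ) : F) = 0 := by
      linear_combination (-c * ((b⁻¹ : Fˣ) : F) * ((b⁻¹ : Fˣ) : F)) * h1 - c * h2
    rw [h3, U_zero, ha, hb, T_one, one_mul]

/-- The subgroup `X ⟨t⟩` of `GL₂(F)`. -/
def HV (F : Type*) [Field F] : Subgroup (GL (Fin 2) F) where
  carrier := {g | ∃ (c : F) (a : Fˣ), a * a = 1 ∧ g = U c * T a a}
  mul_mem' := by
    rintro _ _ ⟨c, a, ha, rfl⟩ ⟨c', a', ha', rfl⟩
    refine ⟨_, _, ?_, UT_mul c c' a a a' a'⟩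
    rw [mul_mul_mul_comm, ha, ha', one_mul]
  one_mem' := ⟨0, 1, one_mul _, by rw [U_zero, T_one, one_mul]⟩
  inv_mem' := by
    rintro _ ⟨c, a, ha, rfl⟩
    refine ⟨-(a * c * ((a⁻¹ : Fˣ) : F)), a, ha, ?_⟩
    rw [inv_eq_iff_mul_eq_one, UT_mul]
    have h1 : (a : F) * a = 1 := by rw [← Units.val_mul, ha, Units.val_one]
    have h2 : ((a⁻¹ : Fˣ) : F) * ((a⁻¹ : Fˣ) : F) = 1 := by
      rw [← Units.val_mul, ← mul_inv, ha, inv_one, Units.val_one]
    have h3 : c + a * -(a * c * ((a⁻¹ : Fˣ) : F)) * ((a⁻¹ : Fˣ) : F) = 0 := by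
      linear_combination (-c * ((a⁻¹ : Fˣ) : F) * ((a⁻¹ : Fˣ) : F)) * h1 - c * h2
    rw [h3, U_zero, ha, T_one, one_mul]

theorem sq_cases {a : Fˣ} (ha : a * a = 1) : a = 1 ∨ a = -1 := by
  have h1 : (a : F) * a = 1 := by
    rw [← Units.val_mul, ha, Units.val_one]
  rcases mul_self_eq_one_iff.mp h1 with h | h
  · exact Or.inl (Units.ext h)
  · exact Or.inr (Units.ext h)

theorem card_sq (h2 : (2 : F) ≠ 0) : Nat.card {a : Fˣ // a * a = 1} = 2 := by
  classical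
  have h : (1 : Fˣ) ≠ -1 := by
    intro h
    have := congrArg (fun u : Fˣ => (u : F)) h
    simp only [Units.val_one, Units.val_neg] at this
    exact h2 (by linear_combination this)
  have e : {a : Fˣ // a * a = 1} ≃ ({1, -1} : Finset Fˣ) := by
    refine Equiv.subtypeEquivRight fun a => ?_
    rw [Finset.mem_insert, Finset.mem_singleton]
    refine ⟨sq_cases, ?_⟩
    rintro (rfl | rfl) <;> simp
  rw [Nat.card_congr e, Nat.card_eq_fintype_card, Fintype.card_coe, Finset.card_pair h]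

theorem UT_inj {c c' : F} {a b a' b' : Fˣ} (h : U c * T a b = U c' * T a' b') :
    c = c' ∧ a = a' ∧ b = b' := by
  have h1 := congrArg (fun k : GL (Fin 2) F => k.1 0 0) h
  have h2 := congrArg (fun k : GL (Fin 2) F => k.1 0 1) h
  have h3 := congrArg (fun k : GL (Fin 2) F => k.1 1 1) h
  simp only [mul_val, U_00, U_01, U_10, U_11, T_00, T_01, T_10, T_11, mul_one, mul_zero, one_mul,
    add_zero, zero_mul, zero_add] at h1 h2 h3
  have h4 : b = b' := Units.ext h3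
  subst h4
  exact ⟨mul_right_cancel₀ b.ne_zero h2, Units.ext h1, rfl⟩

theorem card_KV (h2 : (2 : F) ≠ 0) : Nat.card (KV F) = Nat.card F * (2 * 2) := by
  have e : F × ({a : Fˣ // a * a = 1} × {b : Fˣ // b * b = 1}) ≃ KV F := by
    refine Equiv.ofBijective (fun x => ⟨U x.1 * T x.2.1 x.2.2, x.1, x.2.1, x.2.2, x.2.1.2,
      x.2.2.2, rfl⟩) ⟨?_, ?_⟩
    · rintro ⟨c, a, b⟩ ⟨c', a', b'⟩ h
      obtain ⟨h1, h2, h3⟩ := UT_inj (congrArg Subtype.val h)
      simp only [Prod.mk.injEq]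
      exact ⟨h1, Subtype.ext h2, Subtype.ext h3⟩
    · rintro ⟨_, c, a, b, ha, hb, rfl⟩
      exact ⟨⟨c, ⟨a, ha⟩, ⟨b, hb⟩⟩, rfl⟩
  rw [← Nat.card_congr e, Nat.card_prod, Nat.card_prod, card_sq h2]

theorem card_HV (h2 : (2 : F) ≠ 0) : Nat.card (HV F) = Nat.card F * 2 := by
  have e : F × {a : Fˣ // a * a = 1} ≃ HV F := by
    refine Equiv.ofBijective (fun x => ⟨U x.1 * T x.2 x.2, x.1, x.2, x.2.2, rfl⟩) ⟨?_, ?_⟩
    · rintro ⟨c, a⟩ ⟨c', a'⟩ h
      obtain ⟨h1, h2, h3⟩ := UT_inj (congrArg Subtype.val h)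
      simp only [Prod.mk.injEq]
      exact ⟨h1, Subtype.ext h2⟩
    · rintro ⟨_, c, a, ha, rfl⟩
      exact ⟨⟨c, ⟨a, ha⟩⟩, rfl⟩
  rw [← Nat.card_congr e, Nat.card_prod, card_sq h2]

theorem HV_le_KV : HV F ≤ KV F := by
  rintro _ ⟨c, a, ha, rfl⟩
  exact ⟨c, a, a, ha, ha, rfl⟩

/-- `φ` is injective on `X V`. -/
theorem KV_inj (hH : Hyp φ n) {g : GL (Fin 2) F} (hg : g ∈ KV F) (h : φ g = 1) : g = 1 := by
  obtain ⟨c, a, b, ha, hb, rfl⟩ := hg
  obtain ⟨d, hd⟩ := hH.ker_T h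
  have hd' : U c * T a b = U 0 * T d d := by rw [hd, U_zero, one_mul]
  obtain ⟨rfl, rfl, rfl⟩ := UT_inj hd'
  rcases sq_cases ha with rfl | rfl
  · rw [U_zero, T_one, one_mul]
  · rw [U_zero, one_mul] at h
    exact absurd h hH.tt_ne

theorem card_map_KV (hH : Hyp φ n) : Nat.card ((KV F).map φ) = Nat.card F * (2 * 2) := by
  rw [← card_KV hH.two]
  symm
  refine Nat.card_congr (Equiv.ofBijective (φ.subgroupMap (KV F)) ⟨?_, φ.subgroupMap_surjective _⟩)
  rw [← MonoidHom.ker_eq_bot_iff, eq_bot_iff]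
  rintro ⟨g, hg⟩ h
  rw [MonoidHom.mem_ker] at h
  exact Subtype.ext (KV_inj hH hg (congrArg Subtype.val h))

theorem card_map_HV (hH : Hyp φ n) : Nat.card ((HV F).map φ) = Nat.card F * 2 := by
  rw [← card_HV hH.two]
  symm
  refine Nat.card_congr (Equiv.ofBijective (φ.subgroupMap (HV F)) ⟨?_, φ.subgroupMap_surjective _⟩)
  rw [← MonoidHom.ker_eq_bot_iff, eq_bot_iff]
  rintro ⟨g, hg⟩ h
  rw [MonoidHom.mem_ker] at h
  exact Subtype.ext (KV_inj hH (HV_le_KV hg) (congrArg Subtype.val h))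

theorem conj_half (h2 : (2 : F) ≠ 0) (c : F) (a b : Fˣ) (h : (a : F) * ((b⁻¹ : Fˣ) : F) = -1) :
    U (c / 2) * T a b * (U (c / 2))⁻¹ = U c * T a b := by
  rw [U_inv]
  have h1 := T_U a b (-(c / 2))
  have h3 : U (c / 2) * T a b * U (-(c / 2)) =
      U (c / 2) * (T a b * U (-(c / 2)) * (T a b)⁻¹) * T a b := by group
  rw [h3, h1, U_mul]
  congr 2
  have h4 : (a : F) * -(c / 2) * ((b⁻¹ : Fˣ) : F) = c / 2 := by
    linear_combination (-(c / 2)) * h
  rw [h4]; field_simp; ring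

section
variable {p : ℕ} [hp : Fact p.Prime] [CharP F p] [Finite F] [Finite G]

omit [Finite F] [Finite G] in
theorem p_ne_two (hH : Hyp φ n) (p : ℕ) [CharP F p] : p ≠ 2 := by
  rintro rfl
  exact hH.two (by exact_mod_cast CharP.cast_eq_zero F 2)

omit [Finite F] [Finite G] in
theorem orderOf_A {x : G} (hx : x ∈ A φ) (hx1 : x ≠ 1) : orderOf x = p :=
  orderOf_eq_prime (A_pow hx) hx1

omit [Finite F] in
/-- the basic inequalities -/
theorem char_bound (hH : Hyp φ n) {χ : G → ℂ} (hχ : IsIrrCharacter G χ) (P : Sylow p G)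
    (hP : (P : Subgroup G) = A φ) {d c : ℤ} (h1 : χ 1 = d) (hc : χ (tt φ) = c)
    (hd : (Nat.card F : ℤ) ∣ d) :
    2 * Nat.card F * (d + c + 2 * Nat.card F * c) ≤ 4 * Nat.card F * (d + c) ∧
      0 ≤ d + c + 2 * Nat.card F * c := by
  have hcl : ∀ g x : G, χ (g * x * g⁻¹) = χ x := by
    obtain ⟨m, ρ, _, rfl⟩ := hχ
    intro g x
    exact ρ.char_conj x g
  have hchar : IsCharacter G χ := by
    obtain ⟨m, ρ, _, rfl⟩ := hχ
    exact ⟨m, ρ, rfl⟩
  have hvan : ∀ x : G, p ∣ orderOf x → χ x = 0 := by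
    obtain ⟨m, ρ, hρ, rfl⟩ := hχ
    intro x hx
    have := Fintype.ofFinite G
    set a := (Nat.card G).factorization p with ha
    have hcardP : p ^ a = Nat.card F := by
      rw [ha, ← P.card_eq_multiplicity, hP, card_A hH]
    have h3 : p ^ a ∣ Nat.card G := Nat.ordProj_dvd _ _
    have h4 : ¬ p ^ (a + 1) ∣ Nat.card G :=
      Nat.pow_succ_factorization_not_dvd Nat.card_pos.ne' hp.out
    have h5 : p ^ a ∣ Module.finrank ℂ (Fin m → ℂ) := by
      rw [hcardP]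
      have h6 : (Module.finrank ℂ (Fin m → ℂ) : ℤ) = d := by
        rw [Representation.char_one] at h1
        exact_mod_cast h1
      rw [← h6] at hd
      exact_mod_cast hd
    have h := Cfsg.Agent.Characters.DefectZero.character_inv_eq_zero ρ hρ p a hp.out h3 h4
      h5 x⁻¹ (by rwa [orderOf_inv])
    rwa [inv_inv] at h
  have key := Cfsg.Agent.Classification.InvCentPL.QDChar.two_ineq hchar
    (Subgroup.map_mono (f := φ) (HV_le_KV (F := F))) (t := tt φ)
    (⟨_, ⟨0, -1, by simp, by rw [U_zero, one_mul]⟩, rfl⟩) hH.tt_ne d c h1 hc ?_ ?_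
  · rw [card_map_HV hH, card_map_KV hH] at key
    push_cast at key
    constructor
    · have := key.1
      linarith
    · have := key.2
      linarith
  · rintro _ ⟨_, ⟨c, a, ha, rfl⟩, rfl⟩ hne1 hnet
    apply hvan
    have hA : φ (U c) ∈ A φ := mem_A.mpr ⟨c, rfl⟩
    have hne : φ (U c) ≠ 1 := by
      intro h
      have hc0 : c = 0 := hH.U_inj (by rw [h, U_zero, map_one])
      rcases sq_cases ha with rfl | rfl
      · exact hne1 (by rw [hc0, U_zero, T_one, one_mul, map_one])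
      · exact hnet (by rw [hc0, U_zero, one_mul]; rfl)
    have ho := orderOf_A (p := p) hA hne
    have hsq : φ (U c * T a a) ^ 2 = φ (U c) ^ 2 := by
      rw [← map_pow, ← map_pow, pow_two, pow_two]
      congr 1
      rw [UT_mul, ha, T_one, mul_one, U_mul]
      congr 1
      have : (a : F) * ((a⁻¹ : Fˣ) : F) = 1 := by rw [← Units.val_mul]; simp
      linear_combination c * this
    have hp2 := p_ne_two hH p
    have hsq1 : φ (U c) ^ 2 ≠ 1 := by
      intro h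
      have h3 := orderOf_dvd_of_pow_eq_one h
      rw [ho] at h3
      exact hp2 ((Nat.prime_dvd_prime_iff_eq hp.out Nat.prime_two).mp h3)
    have ho2 : orderOf (φ (U c) ^ 2) = p := orderOf_A ((A φ).pow_mem hA 2) hsq1
    rw [← ho2, ← hsq]
    exact orderOf_pow_dvd 2
  · rintro _ ⟨_, ⟨c, a, b, ha, hb, rfl⟩, rfl⟩ hnH
    have hab : (a = 1 ∧ b = -1) ∨ (a = -1 ∧ b = 1) := by
      rcases sq_cases ha with rfl | rfl <;> rcases sq_cases hb with rfl | rfl
      · exact absurd ⟨_, ⟨c, 1, by simp, rfl⟩, rfl⟩ hnH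
      · exact Or.inl ⟨rfl, rfl⟩
      · exact Or.inr ⟨rfl, rfl⟩
      · exact absurd ⟨_, ⟨c, -1, by simp, rfl⟩, rfl⟩ hnH
    have hval : (a : F) * ((b⁻¹ : Fˣ) : F) = -1 := by
      rcases hab with ⟨rfl, rfl⟩ | ⟨rfl, rfl⟩ <;> simp
    have hv : χ (φ (U c * T a b)) = χ (φ (T a b)) := by
      rw [← conj_half hH.two c a b hval, map_mul, map_mul, map_inv, hcl]
    rw [hv, ← hc]
    have hpair := hH.pair
    rcases hab with ⟨rfl, rfl⟩ | ⟨rfl, rfl⟩
    · rcases hpair with ⟨h, _⟩ | ⟨_, h⟩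
      · rw [← h, hcl]
      · rw [← h]
        have := hcl n⁻¹ (tt φ)
        rwa [inv_inv] at this
    · rcases hpair with ⟨_, h⟩ | ⟨h, _⟩
      · rw [← h]
        have := hcl n⁻¹ (tt φ)
        rwa [inv_inv] at this
      · rw [← h, hcl]

/-- A signed irreducible character. -/
def SIrr (X : G → ℂ) : Prop := ∃ ε : ℤ, (ε = 1 ∨ ε = -1) ∧ IsIrrCharacter G fun g => (ε : ℂ) * X g

/-- the bounds for a signed irreducible character with value `q` at `t`. -/
theorem signed_bound (hH : Hyp φ n) {X : G → ℂ} (hX : SIrr X) (P : Sylow p G)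
    (hP : (P : Subgroup G) = A φ) {f : ℤ} (h1 : X 1 = f) (hc : X (tt φ) = Nat.card F)
    (hd : (Nat.card F : ℤ) ∣ f) :
    (0 < f ∧ 2 * (Nat.card F : ℤ) ^ 2 ≤ f + Nat.card F) ∨
      (f < 0 ∧ 2 * (Nat.card F : ℤ) ^ 2 + Nat.card F ≤ -f) := by
  have hq : (0 : ℤ) < Nat.card F := by exact_mod_cast (Nat.card_pos (α := F))
  have hq3 : (1 : ℤ) < Nat.card F := by exact_mod_cast (Finite.one_lt_card (α := F))
  obtain ⟨ε, hε, hχ⟩ := hX
  rcases hε with rfl | rfl
  · left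
    obtain ⟨h2, _⟩ := char_bound hH hχ P hP (d := f) (c := Nat.card F) (by simp [h1])
      (by simp [hc]) hd
    set q : ℤ := (Nat.card F : ℤ) with hqd
    have h3 : 2 * q * (f + q + 2 * q * q) ≤ 2 * q * (2 * (f + q)) := by linarith
    have h4 := le_of_mul_le_mul_left h3 (by linarith)
    have h5 : 2 * q ^ 2 ≤ f + q := by linarith
    exact ⟨by nlinarith, h5⟩
  · right
    obtain ⟨_, h2⟩ := char_bound hH hχ P hP (d := -f) (c := -Nat.card F) (by simp [h1])
      (by simp [hc]) ((dvd_neg).mpr hd)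
    set q : ℤ := (Nat.card F : ℤ) with hqd
    have h5 : 2 * q ^ 2 + q ≤ -f := by linarith
    exact ⟨by nlinarith, h5⟩

omit hp [CharP F p] [Finite F] [Finite G] in
theorem A_le_centralizer : A φ ≤ Subgroup.centralizer {tt φ} := fun _ hx =>
  Subgroup.mem_centralizer_singleton_iff.mpr (tt_comm_A hx)

/-- The case where `A φ` is a Sylow `p`-subgroup. -/
theorem caseA (hH : Hyp φ n) (P : Sylow p G) (hP : (P : Subgroup G) = A φ)
    (h4 : Nat.card F % 4 = 3) {k f x : ℤ} (hk : Odd k)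
    (hk1 : k ∣ (Nat.card F : ℤ) * ((Nat.card F : ℤ) ^ 2 - 1))
    (hk2 : (Nat.card F : ℤ) + 1 - k ∣ (Nat.card F : ℤ) * ((Nat.card F : ℤ) + 1) ^ 2)
    (hn : ((Subgroup.centralizer {tt φ}).index : ℤ) =
      ((Nat.card F : ℤ) ^ 2 - 1 + k) * ((Nat.card F : ℤ) ^ 2 + Nat.card F + k))
    (hf : f * k = Nat.card F * ((Nat.card F : ℤ) ^ 2 - 1 + k))
    (hx : x * ((Nat.card F : ℤ) + 1 - k) = -(Nat.card F * ((Nat.card F : ℤ) ^ 2 + Nat.card F + k)))
    {X Y : G → ℂ} (hX : SIrr X) (hY : SIrr Y) (hX1 : X 1 = f) (hY1 : Y 1 = x)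
    (hXt : X (tt φ) = Nat.card F) (hYt : Y (tt φ) = Nat.card F) : False := by
  set a := (Nat.card G).factorization p with ha
  have hcardP : p ^ a = Nat.card F := by
    rw [ha, ← P.card_eq_multiplicity, hP, card_A hH]
  have ha1 : 1 ≤ a := by
    rcases Nat.eq_zero_or_pos a with h0 | h0
    · rw [h0, pow_zero] at hcardP
      rw [← hcardP] at h4
      omega
    · exact h0
  have hq : (Nat.card F : ℤ) = (p : ℤ) ^ a := by rw [← hcardP]; push_cast; rfl
  have hq3 : (3 : ℤ) ≤ Nat.card F := by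
    have : 3 ≤ Nat.card F := by omega
    exact_mod_cast this
  have hpn : ¬ p ∣ (Subgroup.centralizer {tt φ}).index := by
    intro h
    have h3 : ¬ p ^ (a + 1) ∣ Nat.card G :=
      Nat.pow_succ_factorization_not_dvd Nat.card_pos.ne' hp.out
    apply h3
    rw [pow_succ, ← Subgroup.card_mul_index (Subgroup.centralizer {tt φ})]
    refine Nat.mul_dvd_mul ?_ h
    rw [hcardP, ← card_A hH]
    exact Subgroup.card_dvd_of_le A_le_centralizer
  have hpn' : ¬ (p : ℤ) ∣ ((Nat.card F : ℤ) ^ 2 - 1 + k) * ((Nat.card F : ℤ) ^ 2 + Nat.card F + k) := by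
    rw [← hn]
    exact_mod_cast hpn
  obtain ⟨g1, g2⟩ := Cfsg.Agent.Classification.InvCent.NumCases.case_one hp.out ha1 hq hk1 hk2 hpn'
  have hpq := Cfsg.Agent.Classification.InvCent.NumCases.dvd_q ha1 hq
  have hpk : ¬ (p : ℤ) ∣ k := by
    intro h
    apply hpn'
    refine Dvd.dvd.mul_left ?_ _
    have e : (Nat.card F : ℤ) ^ 2 + Nat.card F + k = Nat.card F * (Nat.card F + 1) + k := by ring
    rw [e]
    exact dvd_add (hpq.mul_right _) h
  have hpk' : ¬ (p : ℤ) ∣ (Nat.card F : ℤ) + 1 - k := by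
    intro h
    apply hpn'
    refine Dvd.dvd.mul_right ?_ _
    have e : (Nat.card F : ℤ) ^ 2 - 1 + k = Nat.card F * (Nat.card F + 1) - (Nat.card F + 1 - k) := by
      ring
    rw [e]
    exact dvd_sub (hpq.mul_right _) h
  have hdf : (Nat.card F : ℤ) ∣ f :=
    (Cfsg.Agent.Classification.InvCent.NumCases.coprime_of_not_dvd hp.out hq hpk).dvd_of_dvd_mul_right
      ⟨_, hf⟩
  have hdx : (Nat.card F : ℤ) ∣ x :=
    (Cfsg.Agent.Classification.InvCent.NumCases.coprime_of_not_dvd hp.out hq hpk').dvd_of_dvd_mul_right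
      ⟨-((Nat.card F : ℤ) ^ 2 + Nat.card F + k), by rw [hx]; ring⟩
  refine Cfsg.Agent.Classification.InvCentPL.QDNumA.num_A hq3 ?_ hk g1 hf hx
    (signed_bound hH hX P hP hX1 hXt hdf) (signed_bound hH hY P hP hY1 hYt hdx)
  omega

end

end Cfsg.Agent.Classification.InvCentPL.QDCaseA
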