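import Cfsg.Agent.Classification.InvCentPL.QDCards
import Cfsg.Agent.Classification.InvCentPL.Monomial
import Cfsg.Agent.Classification.InvCent.NumCases

/-!
The case where a Sylow `p`-subgroup is the product of two commuting root groups.
-/

set_option autoImplicit false
set_option linter.unusedSimpArgs false

namespace Cfsg.Agent.Classification.InvCentPL.QDCaseC

open Matrix
open scoped MatrixGroups
open Cfsg.Agent.Classification.IdL3.Mat
open Cfsg.Agent.Classification.IdL3.MatTwo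
open Cfsg.Agent.Classification.IdL3.Setup
open Cfsg.Agent.Classification.IdL3.SetupTwo
open Cfsg.Agent.Classification.InvCentPL.QDCards

variable {F : Type*} [Field F] {G : Type*} [Group G] {φ : GL (Fin 2) F →* G} {n : G}

/-- The product of the two root groups inverted by `n⁻¹ t n`. -/
def E (φ : GL (Fin 2) F →* G) (n : G) : Subgroup G := A φ ⊔ B (cφ n φ)

/-- The centralizer of `n⁻¹ t n` in the normalizer of `E`. -/
def Y (φ : GL (Fin 2) F →* G) (n : G) : Subgroup G :=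
  Subgroup.normalizer (E φ n : Set G) ⊓ Subgroup.centralizer {n⁻¹ * tt φ * n}

theorem cj_sup (g : G) (K M : Subgroup G) : cj g (K ⊔ M) = cj g K ⊔ cj g M := Subgroup.map_sup _ _ _

theorem mem_normalizer_of_cj {g : G} {K : Subgroup G} (h : cj g K = K) :
    g ∈ Subgroup.normalizer (K : Set G) := by
  rw [Subgroup.mem_normalizer_iff]
  intro x
  constructor
  · intro hx
    have h1 : g * x * g⁻¹ ∈ cj g K := by
      rw [mem_cj]
      have : g⁻¹ * (g * x * g⁻¹) * g = x := by group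
      rw [this]; exact hx
    rw [h] at h1; exact h1
  · intro hx
    have h1 : g * x * g⁻¹ ∈ cj g K := by rw [h]; exact hx
    rw [mem_cj] at h1
    have : g⁻¹ * (g * x * g⁻¹) * g = x := by group
    rw [this] at h1; exact h1

variable (hH : Hyp φ n)
include hH

/-- the reflection of `C(n⁻¹ t n)` exchanges the two root groups. -/
theorem swap : cj (wv (cφ n⁻¹ φ)) (A φ) = B (cφ n φ) := by
  have h1 := cj_w_A1 hH.rot'
  have h2 := hH.inv.B_rot_rot
  rw [inv_inv] at h2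
  rw [h2, cφ_cφ, mul_inv_cancel, cφ_one] at h1
  exact h1

theorem swap_E : cj (wv (cφ n⁻¹ φ)) (E φ n) = E φ n := by
  have h2 : cj (wv (cφ n⁻¹ φ)) (B (cφ n φ)) = A φ := by
    rw [← swap hH, cj_cj, wv_sq, cj_one]
  rw [E, cj_sup, swap hH, h2, sup_comm]

theorem wv_mem : wv (cφ n⁻¹ φ) ∈ Y φ n := by
  refine ⟨mem_normalizer_of_cj (swap_E hH), Subgroup.mem_centralizer_singleton_iff.mpr ?_⟩
  have h := tt_comm (φ := cφ n⁻¹ φ) W
  rw [tt_cφ, inv_inv] at h
  exact h

theorem Ht_le_Y : Ht φ ≤ Y φ n := by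
  intro h hh
  refine ⟨mem_normalizer_of_cj ?_, Subgroup.mem_centralizer_singleton_iff.mpr
    (Ht_comm hh hH.pair.symm.mem)⟩
  rw [E, cj_sup, cj_Ht_A hh, cj_Ht_B (φ := cφ n φ) (by rw [hH.Ht_rot]; exact hh)]

theorem wv_notMem : wv (cφ n⁻¹ φ) ∉ Ht φ := by
  intro h
  rw [← hH.Ht_rot', mem_Ht] at h
  obtain ⟨a, b, hab⟩ := h
  have h1 : cφ n⁻¹ φ (W⁻¹ * T a b) = 1 := by
    rw [map_mul, hab, map_inv, wv, inv_mul_cancel]
  obtain ⟨d, hd⟩ := hH.rot'.ker_T h1
  have h2 : T a b = W * T d d := by rw [← hd]; group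
  have h3 := congrArg (fun k : GL (Fin 2) F => k.1 0 0) h2
  simp [mul_val] at h3

/-- `Y` has order `2 |Ht|`. -/
theorem card_Y [Finite G] [Finite F] {p : ℕ} [hp : Fact p.Prime] [CharP F p] (h5 : 5 < Nat.card F)
    (hYp : ¬ p ∣ Nat.card (Y φ n)) : Nat.card (Y φ n) = 2 * Nat.card (Ht φ) := by
  have hpA : ∀ x : G, x ^ p = 1 → x ∈ Y φ n → x = 1 := by
    intro x hx hxY
    by_contra hne
    apply hYp
    rw [← orderOf_eq_prime hx hne, ← Subgroup.orderOf_mk x hxY]
    exact orderOf_dvd_natCard _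
  have hmon : ∀ y ∈ Y φ n, y ∈ Ht φ ∨ y * wv (cφ n⁻¹ φ) ∈ Ht φ := by
    intro y hy
    have hc := Subgroup.mem_centralizer_singleton_iff.mp hy.2
    obtain ⟨g, rfl⟩ := hH.rot'.cent y (by rw [tt_cφ, inv_inv]; exact hc)
    have hM := Monomial.monomial h5 hH.two ((Y φ n).comap (cφ n⁻¹ φ)) (fun a b => by
        rw [Subgroup.mem_comap]
        apply Ht_le_Y hH
        rw [← hH.Ht_rot']
        exact mem_Ht.mpr ⟨a, b, rfl⟩)
      (fun c hc => by
        rw [Subgroup.mem_comap] at hc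
        have h1 := hpA _ (A_pow (φ := cφ n⁻¹ φ) (mem_A.mpr ⟨c, rfl⟩)) hc
        exact hH.rot'.U_inj (by rw [h1, U_zero, map_one]))
      (fun c hc => by
        rw [Subgroup.mem_comap] at hc
        have hpow : (cφ n⁻¹ φ (L c)) ^ p = 1 := by
          have := A_pow (p := p) (φ := fl (cφ n⁻¹ φ)) (x := cφ n⁻¹ φ (L c))
            (by rw [A_fl]; exact mem_B.mpr ⟨c, rfl⟩)
          exact this
        have h1 := hpA _ hpow hc
        obtain ⟨d, hd⟩ := hH.rot'.ker_T h1
        have h2 := congrArg (fun k : GL (Fin 2) F => k.1 1 0) hd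
        simpa using h2) (g := g) hy
    rcases hM with ⟨h1, h2⟩ | ⟨h1, h2⟩
    · left
      obtain ⟨x, a, b, rfl⟩ := eq_UT g h2
      have hx : x = 0 := by simpa [mul_val] using h1
      rw [← hH.Ht_rot', mem_Ht]
      exact ⟨a, b, by rw [hx, U_zero, one_mul]⟩
    · right
      have h3 : (g * W).1 1 0 = 0 := by simp [mul_val, h2]
      have h4 : (g * W).1 0 1 = 0 := by simp [mul_val, h1]
      obtain ⟨x, a, b, hx⟩ := eq_UT (g * W) h3
      rw [hx] at h4
      have hx0 : x = 0 := by simpa [mul_val] using h4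
      rw [← hH.Ht_rot', mem_Ht]
      refine ⟨a, b, ?_⟩
      rw [wv, ← map_mul, hx, hx0, U_zero, one_mul]
  have hindex : ((Ht φ).subgroupOf (Y φ n)).index = 2 := by
    rw [Subgroup.index_eq_two_iff]
    refine ⟨⟨wv (cφ n⁻¹ φ), wv_mem hH⟩, ?_⟩
    rintro ⟨y, hy⟩
    rw [Subgroup.mem_subgroupOf, Subgroup.mem_subgroupOf]
    rcases hmon y hy with h | h
    · right
      refine ⟨h, fun h2 => wv_notMem hH ?_⟩
      have := (Ht φ).mul_mem ((Ht φ).inv_mem h) h2
      have e : y⁻¹ * (y * wv (cφ n⁻¹ φ)) = wv (cφ n⁻¹ φ) := by group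
      rwa [Subgroup.coe_mul, e] at this
    · left
      refine ⟨h, fun h2 => wv_notMem hH ?_⟩
      have := (Ht φ).mul_mem ((Ht φ).inv_mem h2) h
      have e : y⁻¹ * (y * wv (cφ n⁻¹ φ)) = wv (cφ n⁻¹ φ) := by group
      rwa [e] at this
  have h1 := Subgroup.card_mul_index ((Ht φ).subgroupOf (Y φ n))
  rw [hindex, Nat.card_congr (Subgroup.subgroupOfEquivOfLe (Ht_le_Y hH)).toEquiv] at h1
  rw [← h1, mul_comm]

theorem not_dvd_card_Ht [Finite F] {p : ℕ} [hp : Fact p.Prime] [CharP F p] :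
    ¬ p ∣ Nat.card (Ht φ) := by
  intro h
  obtain ⟨⟨x, hx⟩, hxo⟩ := @exists_prime_orderOf_dvd_card' _ _ (by
    have h1 := card_Ht_mul hH
    have hq : 1 < Nat.card F := Finite.one_lt_card
    refine Nat.finite_of_card_ne_zero ?_
    intro h0
    rw [h0, zero_mul] at h1
    have : 0 < (Nat.card F - 1) * (Nat.card F - 1) := by
      apply Nat.mul_pos <;> omega
    omega) p _ h
  rw [Subgroup.orderOf_mk] at hxo
  have h1 : x = 1 := Ht_pelt hx (p := p) (k := 1) (by
    rw [pow_one, ← hxo]; exact pow_orderOf_eq_one x)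
  rw [h1, orderOf_one] at hxo
  exact hp.out.one_lt.ne hxo

/-- **Case (c)** is impossible for `q = 3 mod 4`, `q > 5`. -/
theorem caseC [Finite G] [Finite F] {p : ℕ} [hp : Fact p.Prime] [CharP F p] (h5 : 5 < Nat.card F)
    (P : Sylow p G) (hP : (P : Subgroup G) = E φ n) (hE : Nat.card (E φ n) = Nat.card F ^ 2)
    (hYp : ¬ p ∣ Nat.card (Y φ n))
    (hN : Nat.card (Subgroup.normalizer (E φ n : Set G)) = Nat.card F ^ 2 * Nat.card (Y φ n))
    {k : ℤ} (hk : Odd k)
    (hk1 : k ∣ (Nat.card F : ℤ) * ((Nat.card F : ℤ) ^ 2 - 1))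
    (hk2 : (Nat.card F : ℤ) + 1 - k ∣ (Nat.card F : ℤ) * ((Nat.card F : ℤ) + 1) ^ 2)
    (hn : ((Subgroup.centralizer {tt φ}).index : ℤ) =
      ((Nat.card F : ℤ) ^ 2 - 1 + k) * ((Nat.card F : ℤ) ^ 2 + Nat.card F + k)) : False := by
  have hp2 : p ≠ 2 := by
    rintro rfl
    exact hH.two (by exact_mod_cast CharP.cast_eq_zero F 2)
  obtain ⟨a, ha⟩ : ∃ a : ℕ, Nat.card F = p ^ a := by
    have := Fintype.ofFinite F
    obtain ⟨m, _, hm⟩ := FiniteField.card F p
    exact ⟨m, by rw [Nat.card_eq_fintype_card, hm]⟩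
  have ha1 : 1 ≤ a := by
    rcases Nat.eq_zero_or_pos a with h0 | h0
    · rw [h0, pow_zero] at ha; omega
    · exact h0
  have hfac : p ^ ((Nat.card G).factorization p) = Nat.card F ^ 2 := by
    rw [← P.card_eq_multiplicity, hP, hE]
  have hfac' : (Nat.card G).factorization p = a * 2 := by
    rw [ha, ← pow_mul] at hfac
    exact Nat.pow_right_injective hp.out.two_le hfac
  set N := (Subgroup.centralizer {tt φ}).index with hNd
  have hG : Nat.card G = Nat.card (Ht φ) * (Nat.card F * (Nat.card F + 1)) * N := by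
    rw [← card_C hH, hNd, Subgroup.card_mul_index]
  have hpq : p ∣ Nat.card F := by rw [ha]; exact dvd_pow_self _ (by omega)
  have hpq1 : ¬ p ∣ Nat.card F + 1 := by
    intro h
    have := (Nat.dvd_add_right hpq).mp h
    exact hp.out.one_lt.ne' (Nat.dvd_one.mp this)
  have hcop : Nat.Coprime (Nat.card F) (Nat.card (Ht φ) * (Nat.card F + 1)) := by
    rw [ha]
    apply Nat.Coprime.pow_left
    rw [Nat.Prime.coprime_iff_not_dvd hp.out, hp.out.dvd_mul, not_or]
    exact ⟨not_dvd_card_Ht hH, by rw [← ha]; exact hpq1⟩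
  have hq0 : 0 < Nat.card F := Nat.card_pos
  have hqN : Nat.card F ∣ N := by
    have h1 : Nat.card F ^ 2 ∣ Nat.card G := by
      rw [← hfac]; exact Nat.ordProj_dvd _ _
    rw [hG, pow_two] at h1
    have h2 : Nat.card F * Nat.card F ∣ Nat.card F * ((Nat.card (Ht φ) * (Nat.card F + 1)) * N) := by
      convert h1 using 1; ring
    exact hcop.dvd_of_dvd_mul_left (Nat.dvd_of_mul_dvd_mul_left hq0 h2)
  have hqN' : ¬ p * Nat.card F ∣ N := by
    intro h
    have h3 : ¬ p ^ ((Nat.card G).factorization p + 1) ∣ Nat.card G :=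
      Nat.pow_succ_factorization_not_dvd Nat.card_pos.ne' hp.out
    apply h3
    rw [pow_succ, hfac, hG]
    obtain ⟨c, hc⟩ := h
    rw [hc]
    exact ⟨Nat.card (Ht φ) * (Nat.card F + 1) * c, by ring⟩
  have hqZ : (Nat.card F : ℤ) = (p : ℤ) ^ a := by rw [ha]; push_cast; rfl
  have h1 : (Nat.card F : ℤ) ∣ ((Nat.card F : ℤ) ^ 2 - 1 + k) * ((Nat.card F : ℤ) ^ 2 + Nat.card F + k) := by
    rw [← hn]; exact_mod_cast hqN
  have h2 : ¬ (p * (Nat.card F : ℤ) : ℤ) ∣
      ((Nat.card F : ℤ) ^ 2 - 1 + k) * ((Nat.card F : ℤ) ^ 2 + Nat.card F + k) := by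
    rw [← hn]; exact_mod_cast hqN'
  have hkq : k = Nat.card F := by
    rcases Cfsg.Agent.Classification.InvCent.NumCases.case_two hp.out hp2 ha1 hqZ hk hk1 hk2 h1 h2
      with h | ⟨h, _⟩
    · exact h
    · exfalso; omega
  -- the number of Sylow subgroups
  have hS : Nat.card (Sylow p G) = (Subgroup.normalizer ((P : Subgroup G) : Set G)).index :=
    P.card_eq_index_normalizer
  have hS1 := card_sylow_modEq_one p G
  rw [hP] at hS
  have hGN := Subgroup.card_mul_index (Subgroup.normalizer (E φ n : Set G))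
  rw [← hS, hN, card_Y (p := p) hH h5 hYp, hG] at hGN
  set s := Nat.card (Sylow p G) with hs
  have hT : 0 < Nat.card (Ht φ) := Nat.card_pos
  have key : (2 * s : ℤ) = (Nat.card F + 1) * ((Nat.card F : ℤ) ^ 2 + Nat.card F - 1) * (Nat.card F + 2) := by
    have h3 : ((Nat.card F : ℤ) ^ 2 * (2 * Nat.card (Ht φ))) * s =
        Nat.card (Ht φ) * (Nat.card F * (Nat.card F + 1)) * N := by exact_mod_cast hGN
    rw [hn, hkq] at h3
    have hT' : (Nat.card (Ht φ) : ℤ) ≠ 0 := by exact_mod_cast hT.ne'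
    have hq' : (Nat.card F : ℤ) ≠ 0 := by exact_mod_cast hq0.ne'
    have h4 : ((Nat.card (Ht φ) : ℤ) * (Nat.card F : ℤ) ^ 2) * (2 * s) =
        ((Nat.card (Ht φ) : ℤ) * (Nat.card F : ℤ) ^ 2) *
        ((Nat.card F + 1) * ((Nat.card F : ℤ) ^ 2 + Nat.card F - 1) * (Nat.card F + 2)) := by
      linear_combination h3
    exact mul_left_cancel₀ (mul_ne_zero hT' (pow_ne_zero 2 hq')) h4
  have hs1 : (p : ℤ) ∣ s - 1 := by
    have := (Nat.modEq_iff_dvd.mp hS1.symm)
    exact_mod_cast this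
  have hpqZ : (p : ℤ) ∣ Nat.card F := by exact_mod_cast hpq
  have h4 : (p : ℤ) ∣ 4 := by
    obtain ⟨u, hu⟩ := hs1
    obtain ⟨v, hv⟩ := hpqZ
    refine ⟨v * ((Nat.card F : ℤ) ^ 3 + 4 * (Nat.card F : ℤ) ^ 2 + 4 * Nat.card F - 1) - 2 * u, ?_⟩
    have e : (s : ℤ) = 1 + p * u := by linarith
    rw [e] at key
    linear_combination key + ((Nat.card F : ℤ) ^ 3 + 4 * (Nat.card F : ℤ) ^ 2 + 4 * Nat.card F - 1) * hv
  have h6 : p ∣ 2 ^ 2 := by exact_mod_cast h4
  exact hp2 ((Nat.prime_dvd_prime_iff_eq hp.out Nat.prime_two).mp (hp.out.dvd_of_dvd_pow h6))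

end Cfsg.Agent.Classification.InvCentPL.QDCaseC
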