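import Cfsg.Agent.Classification.IdL3.MatTwo

/-!
Subgroups of `GL (Fin 2) F` containing all diagonal matrices and no root element are monomial when `F` has
more than `5` elements.
-/

set_option autoImplicit false
set_option linter.unusedSimpArgs false

namespace Cfsg.Agent.Classification.InvCentPL.QDMono

open Matrix
open scoped MatrixGroups
open Cfsg.Agent.Classification.IdL3.Mat
open Cfsg.Agent.Classification.IdL3.MatTwo

variable {F : Type*} [Field F]

theorem exists_avoid (hcard : 5 < Nat.card F) :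
    ∃ l : F, l ≠ 0 ∧ l ≠ 1 ∧ l ≠ -1 ∧ l * l ≠ -1 := by
  classical
  have hfin : Finite F := Nat.finite_of_card_ne_zero (by omega)
  have := Fintype.ofFinite F
  by_contra hcon
  push Not at hcon
  have key : ∃ i : F, ∀ l : F, l ∈ ({0, 1, -1, i, -i} : Finset F) := by
    by_cases hi : ∃ i : F, i * i = -1
    · obtain ⟨i, hi⟩ := hi
      refine ⟨i, fun l => ?_⟩
      simp only [Finset.mem_insert, Finset.mem_singleton]
      by_cases h0 : l = 0
      · exact Or.inl h0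
      by_cases h1 : l = 1
      · exact Or.inr (Or.inl h1)
      by_cases h2 : l = -1
      · exact Or.inr (Or.inr (Or.inl h2))
      have h3 := hcon l h0 h1 h2
      have h4 : (l - i) * (l + i) = 0 := by linear_combination h3 - hi
      rcases mul_eq_zero.mp h4 with h | h
      · exact Or.inr (Or.inr (Or.inr (Or.inl (sub_eq_zero.mp h))))
      · exact Or.inr (Or.inr (Or.inr (Or.inr (eq_neg_of_add_eq_zero_left h))))
    · push Not at hi
      refine ⟨0, fun l => ?_⟩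
      simp only [Finset.mem_insert, Finset.mem_singleton]
      by_cases h0 : l = 0
      · exact Or.inl h0
      by_cases h1 : l = 1
      · exact Or.inr (Or.inl h1)
      by_cases h2 : l = -1
      · exact Or.inr (Or.inr (Or.inl h2))
      exact absurd (hcon l h0 h1 h2) (hi l)
  obtain ⟨i, hi⟩ := key
  have h1 : Fintype.card F ≤ ({0, 1, -1, i, -i} : Finset F).card := by
    rw [← Finset.card_univ]
    exact Finset.card_le_card fun l _ => hi l
  have h2 : ({0, 1, -1, i, -i} : Finset F).card ≤ 5 := Finset.card_le_five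
  rw [Nat.card_eq_fintype_card] at hcard
  omega

variable {M : Subgroup (GL (Fin 2) F)}

theorem diag_of_upper (hT : ∀ a b : Fˣ, T a b ∈ M) (hU : ∀ c : F, U c ∈ M → c = 0)
    {g : GL (Fin 2) F} (hg : g ∈ M) (h : g.1 1 0 = 0) : g.1 0 1 = 0 := by
  obtain ⟨x, a, b, rfl⟩ := eq_UT g h
  have h1 : U x ∈ M := by
    have := M.mul_mem hg (M.inv_mem (hT a b))
    rwa [mul_inv_cancel_right] at this
  have hx := hU x h1
  simp [mul_val, hx]

theorem diag_of_lower (hT : ∀ a b : Fˣ, T a b ∈ M) (hL : ∀ c : F, L c ∈ M → c = 0)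
    {g : GL (Fin 2) F} (hg : g ∈ M) (h : g.1 0 1 = 0) : g.1 1 0 = 0 := by
  have hd := det_ne g
  rw [h, zero_mul, sub_zero] at hd
  have ha := left_ne_zero_of_mul hd
  have hb := right_ne_zero_of_mul hd
  have e : g = L (g.1 1 0 / g.1 0 0) * T (Units.mk0 _ ha) (Units.mk0 _ hb) := by
    apply ext4 <;> simp [mul_val, h, ha]
  have h1 : L (g.1 1 0 / g.1 0 0) ∈ M := by
    have := M.mul_mem hg (M.inv_mem (hT (Units.mk0 _ ha) (Units.mk0 _ hb)))
    rwa [mul_inv_eq_of_eq_mul e] at this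
  have hx := hL _ h1
  rw [div_eq_zero_iff] at hx
  exact hx.resolve_right ha

/-- entries of a conjugate of a diagonal matrix, multiplied by the determinant. -/
theorem conj_T_entries (g : GL (Fin 2) F) (x y : Fˣ) :
    let D := g.1 0 0 * g.1 1 1 - g.1 0 1 * g.1 1 0
    D * (g * T x y * g⁻¹).1 0 0 = g.1 0 0 * g.1 1 1 * x - g.1 0 1 * g.1 1 0 * y ∧
    D * (g * T x y * g⁻¹).1 0 1 = g.1 0 0 * g.1 0 1 * (y - x) ∧
    D * (g * T x y * g⁻¹).1 1 0 = g.1 1 0 * g.1 1 1 * (x - y) ∧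
    D * (g * T x y * g⁻¹).1 1 1 = g.1 0 0 * g.1 1 1 * y - g.1 0 1 * g.1 1 0 * x := by
  intro D
  have hD : D ≠ 0 := det_ne g
  have hinv : g⁻¹ = mk4 (g.1 1 1 / D) (-g.1 0 1 / D) (-g.1 1 0 / D) (g.1 0 0 / D) (by
      have : g.1 1 1 / D * (g.1 0 0 / D) - -g.1 0 1 / D * (-g.1 1 0 / D) = 1 / D := by
        field_simp
        ring
      rw [this]; exact one_div_ne_zero hD) := by
    rw [inv_eq_iff_mul_eq_one]
    have hD' : g.1 0 0 * g.1 1 1 - g.1 0 1 * g.1 1 0 = D := rfl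
    apply ext4
    · simp only [mul_val, mk4_00, mk4_01, mk4_10, mk4_11, one_00]
      field_simp; linear_combination hD'
    · simp only [mul_val, mk4_00, mk4_01, mk4_10, mk4_11, one_01]
      field_simp; ring
    · simp only [mul_val, mk4_00, mk4_01, mk4_10, mk4_11, one_10]
      field_simp; ring
    · simp only [mul_val, mk4_00, mk4_01, mk4_10, mk4_11, one_11]
      field_simp; linear_combination hD'
  rw [hinv]
  simp only [mul_val, mk4_00, mk4_01, mk4_10, mk4_11, T_00, T_01, T_10, T_11]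
  refine ⟨?_, ?_, ?_, ?_⟩ <;> field_simp <;> ring

/-- An element of `M` with nonzero off-diagonal entries and one zero diagonal entry has both zero. -/
theorem zero_of_zero (hT : ∀ a b : Fˣ, T a b ∈ M) (hU : ∀ c : F, U c ∈ M → c = 0)
    (hL : ∀ c : F, L c ∈ M → c = 0) (hq : ∃ x : Fˣ, x ≠ 1)
    {g : GL (Fin 2) F} (hg : g ∈ M) (h01 : g.1 0 1 ≠ 0) (h10 : g.1 1 0 ≠ 0) :
    g.1 0 0 = 0 ↔ g.1 1 1 = 0 := by
  obtain ⟨x, hx⟩ := hq
  have hx' : (x : F) - 1 ≠ 0 := by
    intro h; exact hx (Units.ext (sub_eq_zero.mp h))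
  have hmem : g * T x 1 * g⁻¹ ∈ M := M.mul_mem (M.mul_mem hg (hT _ _)) (M.inv_mem hg)
  obtain ⟨e00, e01, e10, e11⟩ := conj_T_entries g x 1
  have hD := det_ne g
  simp only [Units.val_one] at e00 e01 e10 e11
  constructor
  · intro h
    have h1 : (g * T x 1 * g⁻¹).1 0 1 = 0 := by
      rw [h] at e01
      have e : (0 * g.1 1 1 - g.1 0 1 * g.1 1 0) * (g * T x 1 * g⁻¹).1 0 1 = 0 := by
        rw [e01]; ring
      rw [h] at hD
      exact (mul_eq_zero.mp e).resolve_left hD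
    have h2 := diag_of_lower hT hL hmem h1
    rw [h2, mul_zero] at e10
    have := mul_eq_zero.mp e10.symm
    rcases this with h | h
    · exact (mul_eq_zero.mp h).resolve_left h10
    · exact absurd h hx'
  · intro h
    have h1 : (g * T x 1 * g⁻¹).1 1 0 = 0 := by
      rw [h] at e10
      have e : (g.1 0 0 * 0 - g.1 0 1 * g.1 1 0) * (g * T x 1 * g⁻¹).1 1 0 = 0 := by
        rw [e10]; ring
      rw [h] at hD
      exact (mul_eq_zero.mp e).resolve_left hD
    have h2 := diag_of_upper hT hU hmem h1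
    rw [h2, mul_zero] at e01
    have := mul_eq_zero.mp e01.symm
    rcases this with h | h
    · exact (mul_eq_zero.mp h).resolve_right h01
    · exfalso; apply hx'; linear_combination -h

theorem cross_ratio (hT : ∀ a b : Fˣ, T a b ∈ M) (hU : ∀ c : F, U c ∈ M → c = 0)
    (hL : ∀ c : F, L c ∈ M → c = 0) (hq : ∃ x : Fˣ, x ≠ 1)
    {g : GL (Fin 2) F} (hg : g ∈ M) (h01 : g.1 0 1 ≠ 0) (h10 : g.1 1 0 ≠ 0) (h00 : g.1 0 0 ≠ 0)
    (h11 : g.1 1 1 ≠ 0) : g.1 0 0 * g.1 1 1 = -(g.1 0 1 * g.1 1 0) := by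
  have hD := det_ne g
  have had : g.1 0 0 * g.1 1 1 ≠ 0 := mul_ne_zero h00 h11
  have hbc : g.1 0 1 * g.1 1 0 ≠ 0 := mul_ne_zero h01 h10
  have hmem : g * T (Units.mk0 _ hbc) (Units.mk0 _ had) * g⁻¹ ∈ M :=
    M.mul_mem (M.mul_mem hg (hT _ _)) (M.inv_mem hg)
  obtain ⟨e00, e01, e10, e11⟩ := conj_T_entries g (Units.mk0 _ hbc) (Units.mk0 _ had)
  simp only [Units.val_mk0] at e00 e01 e10 e11
  have k01 : (g * T (Units.mk0 _ hbc) (Units.mk0 _ had) * g⁻¹).1 0 1 ≠ 0 := by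
    intro h
    rw [h, mul_zero] at e01
    exact (mul_ne_zero (mul_ne_zero h00 h01) hD) e01.symm
  have k10 : (g * T (Units.mk0 _ hbc) (Units.mk0 _ had) * g⁻¹).1 1 0 ≠ 0 := by
    intro h
    rw [h, mul_zero] at e10
    have h2 : g.1 0 1 * g.1 1 0 - g.1 0 0 * g.1 1 1 ≠ 0 := by
      intro h3; apply hD; linear_combination -h3
    exact (mul_ne_zero (mul_ne_zero h10 h11) h2) e10.symm
  have k00 : (g * T (Units.mk0 _ hbc) (Units.mk0 _ had) * g⁻¹).1 0 0 = 0 := by
    have : (g.1 0 0 * g.1 1 1 - g.1 0 1 * g.1 1 0) *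
        (g * T (Units.mk0 _ hbc) (Units.mk0 _ had) * g⁻¹).1 0 0 = 0 := by rw [e00]; ring
    exact (mul_eq_zero.mp this).resolve_left hD
  have k11 := (zero_of_zero hT hU hL hq hmem k01 k10).mp k00
  rw [k11, mul_zero] at e11
  have h3 : (g.1 0 0 * g.1 1 1 - g.1 0 1 * g.1 1 0) * (g.1 0 0 * g.1 1 1 + g.1 0 1 * g.1 1 0) = 0 := by
    linear_combination -e11
  have h4 := (mul_eq_zero.mp h3).resolve_left hD
  linear_combination h4

theorem monomial (hT : ∀ a b : Fˣ, T a b ∈ M) (hU : ∀ c : F, U c ∈ M → c = 0)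
    (hL : ∀ c : F, L c ∈ M → c = 0) (hcard : 5 < Nat.card F)
    {g : GL (Fin 2) F} (hg : g ∈ M) :
    (g.1 0 1 = 0 ∧ g.1 1 0 = 0) ∨ (g.1 0 0 = 0 ∧ g.1 1 1 = 0) := by
  obtain ⟨l, hl0, hl1, hl2, hl3⟩ := exists_avoid hcard
  have hq : ∃ x : Fˣ, x ≠ 1 := ⟨Units.mk0 l hl0, fun h => hl1 (by
    have := congrArg Units.val h
    simpa using this)⟩
  by_cases h10 : g.1 1 0 = 0
  · exact Or.inl ⟨diag_of_upper hT hU hg h10, h10⟩
  by_cases h01 : g.1 0 1 = 0
  · exact absurd (diag_of_lower hT hL hg h01) h10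
  by_cases h00 : g.1 0 0 = 0
  · exact Or.inr ⟨h00, (zero_of_zero hT hU hL hq hg h01 h10).mp h00⟩
  by_cases h11 : g.1 1 1 = 0
  · exact absurd ((zero_of_zero hT hU hL hq hg h01 h10).mpr h11) h00
  exfalso
  have hD := det_ne g
  have hcr := cross_ratio hT hU hL hq hg h01 h10 h00 h11
  have h2 : (2 : F) ≠ 0 := by
    intro h2
    apply hD
    rw [hcr]
    linear_combination (-(g.1 0 1 * g.1 1 0)) * h2
  have hmem : g * T (Units.mk0 l hl0) 1 * g⁻¹ ∈ M :=
    M.mul_mem (M.mul_mem hg (hT _ _)) (M.inv_mem hg)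
  obtain ⟨e00, e01, e10, e11⟩ := conj_T_entries g (Units.mk0 l hl0) 1
  simp only [Units.val_mk0, Units.val_one] at e00 e01 e10 e11
  set h := g * T (Units.mk0 l hl0) 1 * g⁻¹ with hh
  set D := g.1 0 0 * g.1 1 1 - g.1 0 1 * g.1 1 0 with hDdef
  have had : g.1 0 0 * g.1 1 1 ≠ 0 := mul_ne_zero h00 h11
  have hD2 : D = 2 * (g.1 0 0 * g.1 1 1) := by rw [hDdef]; linear_combination -hcr
  have hl1' : l - 1 ≠ 0 := sub_ne_zero.mpr hl1
  have hl1'' : 1 - l ≠ 0 := sub_ne_zero.mpr hl1.symm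
  have hl2' : l + 1 ≠ 0 := by
    intro h5; exact hl2 (eq_neg_of_add_eq_zero_left h5)
  have k01 : h.1 0 1 ≠ 0 := by
    intro h5; rw [h5, mul_zero] at e01
    exact (mul_ne_zero (mul_ne_zero h00 h01) hl1'') e01.symm
  have k10 : h.1 1 0 ≠ 0 := by
    intro h5; rw [h5, mul_zero] at e10
    exact (mul_ne_zero (mul_ne_zero h10 h11) hl1') e10.symm
  have f00 : D * h.1 0 0 = g.1 0 0 * g.1 1 1 * (l + 1) := by rw [e00]; linear_combination -hcr
  have f11 : D * h.1 1 1 = g.1 0 0 * g.1 1 1 * (l + 1) := by rw [e11]; linear_combination -l * hcr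
  have k00 : h.1 0 0 ≠ 0 := by
    intro h5; rw [h5, mul_zero] at f00
    exact (mul_ne_zero had hl2') f00.symm
  have k11 : h.1 1 1 ≠ 0 := by
    intro h5; rw [h5, mul_zero] at f11
    exact (mul_ne_zero had hl2') f11.symm
  have hcr' := cross_ratio hT hU hL hq hmem k01 k10 k00 k11
  have e1 : (D * h.1 0 0) * (D * h.1 1 1) = -((D * h.1 0 1) * (D * h.1 1 0)) := by
    linear_combination D ^ 2 * hcr'
  rw [f00, f11, e01, e10] at e1
  have e2 : (g.1 0 0 * g.1 1 1) ^ 2 * (2 * (l * l + 1)) = 0 := by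
    linear_combination e1 + (g.1 0 0 * g.1 1 1) * (l - 1) ^ 2 * hcr
  have e3 := (mul_eq_zero.mp e2).resolve_left (pow_ne_zero 2 had)
  have e4 := (mul_eq_zero.mp e3).resolve_left h2
  exact hl3 (eq_neg_of_add_eq_zero_left e4)

end Cfsg.Agent.Classification.InvCentPL.QDMono
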