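import Cfsg.Agent.Classification.InvCentPL.QDCaseA
import Cfsg.Agent.Classification.InvCentPL.QDCaseC

/-!
The order of `G` in the case `q = 3 mod 4` (semidihedral Sylow `2`-subgroups).
-/

set_option autoImplicit false
set_option linter.unusedSimpArgs false

namespace Cfsg.Agent.Classification.InvCentPL.QDOrder

open Matrix Cfsg
open scoped MatrixGroups
open Cfsg.Agent.Classification.IdL3.Mat
open Cfsg.Agent.Classification.IdL3.MatTwo
open Cfsg.Agent.Classification.IdL3.Setup
open Cfsg.Agent.Classification.IdL3.SetupTwo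
open Cfsg.Agent.Classification.InvCentPL.QDCards
open Cfsg.Agent.Classification.InvCentPL.QDCaseA
open Cfsg.Agent.Classification.InvCentPL.QDCaseC

variable {F : Type*} [Field F] {G : Type*} [Group G] {φ : GL (Fin 2) F →* G} {n : G}

/-- Case (c) of the trichotomy: a Sylow `p`-subgroup is the product of two commuting root groups. -/
structure CaseC (φ : GL (Fin 2) F →* G) (n : G) (p : ℕ) : Prop where
  syl : ∃ P : Sylow p G, (P : Subgroup G) = E φ n
  card : Nat.card (E φ n) = Nat.card F ^ 2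
  cop : ¬ p ∣ Nat.card (Y φ n)
  norm : Nat.card (Subgroup.normalizer (E φ n : Set G)) = Nat.card F ^ 2 * Nat.card (Y φ n)

/-- The trichotomy for the `p`-part of the order of `G`. -/
def Tri (φ : GL (Fin 2) F →* G) (n : G) (p : ℕ) : Prop :=
  (∃ P : Sylow p G, (P : Subgroup G) = A φ) ∨ CaseC φ n p ∨ CaseC φ n⁻¹ p ∨
    Nat.card F ^ 3 ∣ Nat.card G

/-- The arithmetic and character-theoretic data. -/
structure Data (t : G) (q : ℕ) (k : ℤ) : Prop where
  odd : Odd k
  dvd_one : k ∣ (q : ℤ) * ((q : ℤ) ^ 2 - 1)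
  dvd_two : (q : ℤ) + 1 - k ∣ (q : ℤ) * ((q : ℤ) + 1) ^ 2
  index : ((Subgroup.centralizer {t}).index : ℤ) =
      ((q : ℤ) ^ 2 - 1 + k) * ((q : ℤ) ^ 2 + q + k)
  chars : ∃ X Z : G → ℂ, ∃ f x : ℤ, SIrr X ∧ SIrr Z ∧ X 1 = f ∧ Z 1 = x ∧ X t = q ∧ Z t = q ∧
    f * k = q * ((q : ℤ) ^ 2 - 1 + k) ∧ x * ((q : ℤ) + 1 - k) = -(q * ((q : ℤ) ^ 2 + q + k))

theorem three {k : ℤ} (h1 : k ∣ 3 * (3 ^ 2 - 1)) (hodd : Odd k) (h2 : 3 + 1 - k ∣ 3 * (3 + 1) ^ 2) :
    k = 1 ∨ k = 3 := by
  obtain ⟨m, hm⟩ := hodd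
  have hodd' : k % 2 = 1 := by omega
  have hle : k ≤ 24 := Int.le_of_dvd (by norm_num) (by norm_num at h1 ⊢; exact h1)
  have hge : -24 ≤ k := by
    have := Int.le_of_dvd (by norm_num) ((neg_dvd).mpr h1)
    norm_num at this
    linarith
  obtain ⟨u, hu⟩ := h1
  obtain ⟨v, hv⟩ := h2
  norm_num at hu hv
  clear hm
  interval_cases k <;> omega

theorem card_of_index [Finite F] (hH : Hyp φ n) (h3 : Nat.card F = 3)
    (h : (Subgroup.centralizer {tt φ}).index = 165) : Nat.card G = 7920 := by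
  have h1 := card_Ht_mul hH
  rw [h3] at h1
  have h2 : Nat.card φ.ker = 1 := by
    obtain ⟨m, hm⟩ := hH.ker_o
    have h4 : Nat.card φ.ker ∣ 2 ^ 2 := ⟨Nat.card (Ht φ), by rw [mul_comm, h1]; norm_num⟩
    obtain ⟨j, _, hj⟩ := (Nat.dvd_prime_pow Nat.prime_two).mp h4
    rcases Nat.eq_zero_or_pos j with h0 | h0
    · rw [hj, h0, pow_zero]
    · exfalso
      have : 2 ∣ Nat.card φ.ker := by rw [hj]; exact dvd_pow_self _ (by omega)
      omega
  rw [h2] at h1
  have h4 := Subgroup.card_mul_index (Subgroup.centralizer {tt φ})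
  rw [← h4, card_C hH, h, h3]
  have h5 : Nat.card (Ht φ) = 4 := by omega
  rw [h5]

theorem order [Finite G] [Finite F] {p : ℕ} [hp : Fact p.Prime] [CharP F p] (hH : Hyp φ n)
    (h4 : Nat.card F % 4 = 3) {k : ℤ} (hD : Data (tt φ) (Nat.card F) k) (hT : 3 < Nat.card F → Tri φ n p) :
    (Subgroup.centralizer {tt φ}).index = Nat.card F ^ 2 * (Nat.card F ^ 2 + Nat.card F + 1) ∨
      Nat.card G = 7920 := by
  have key : k = 1 → (Subgroup.centralizer {tt φ}).index =
      Nat.card F ^ 2 * (Nat.card F ^ 2 + Nat.card F + 1) := by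
    intro hk
    have h := hD.index
    rw [hk] at h
    have h2 : ((Subgroup.centralizer {tt φ}).index : ℤ) =
        (Nat.card F : ℤ) ^ 2 * ((Nat.card F : ℤ) ^ 2 + Nat.card F + 1) := by rw [h]; ring
    exact_mod_cast h2
  by_cases h3 : Nat.card F = 3
  · have h1 := hD.dvd_one
    have h2 := hD.dvd_two
    rw [h3] at h1 h2
    rcases three (by exact_mod_cast h1) hD.odd (by exact_mod_cast h2) with hk | hk
    · exact Or.inl (key hk)
    · right
      apply card_of_index hH h3
      have h := hD.index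
      rw [hk, h3] at h
      norm_num at h
      exact_mod_cast h
  have hp2 : p ≠ 2 := by
    rintro rfl
    exact hH.two (by exact_mod_cast CharP.cast_eq_zero F 2)
  have h5 : 5 < Nat.card F := by
    have := Finite.one_lt_card (α := F)
    omega
  left
  obtain ⟨X, Z, f, x, hX, hZ, hX1, hZ1, hXt, hZt, hf, hx⟩ := hD.chars
  rcases hT (by omega) with ⟨P, hP⟩ | hC | hC | hC
  · exact absurd (caseA hH P hP h4 hD.odd hD.dvd_one hD.dvd_two hD.index hf hx hX hZ hX1 hZ1 hXt hZt) id
  · obtain ⟨P, hP⟩ := hC.syl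
    exact absurd (caseC hH h5 P hP hC.card hC.cop hC.norm hD.odd hD.dvd_one hD.dvd_two hD.index) id
  · obtain ⟨P, hP⟩ := hC.syl
    exact absurd (caseC hH.inv h5 P hP hC.card hC.cop hC.norm hD.odd hD.dvd_one hD.dvd_two
      hD.index) id
  · apply key
    obtain ⟨a, ha⟩ : ∃ a : ℕ, Nat.card F = p ^ a := by
      have := Fintype.ofFinite F
      obtain ⟨m, _, hm⟩ := FiniteField.card F p
      exact ⟨m, by rw [Nat.card_eq_fintype_card, hm]⟩
    have ha1 : 1 ≤ a := by
      rcases Nat.eq_zero_or_pos a with h0 | h0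
      · rw [h0, pow_zero] at ha; omega
      · exact h0
    have hqZ : (Nat.card F : ℤ) = (p : ℤ) ^ a := by rw [ha]; push_cast; rfl
    refine Cfsg.Agent.Classification.InvCent.NumCases.case_three hp.out hp2 ha1 hqZ hD.odd hD.dvd_one
      hD.dvd_two ?_
    rw [← hD.index]
    have hpq : p ∣ Nat.card F := by rw [ha]; exact dvd_pow_self _ (by omega)
    have hpq1 : ¬ p ∣ Nat.card F + 1 := by
      intro h
      have := (Nat.dvd_add_right hpq).mp h
      exact hp.out.one_lt.ne' (Nat.dvd_one.mp this)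
    have hcop : Nat.Coprime (Nat.card F ^ 2) (Nat.card (Ht φ) * (Nat.card F + 1)) := by
      apply Nat.Coprime.pow_left
      rw [ha]
      apply Nat.Coprime.pow_left
      rw [Nat.Prime.coprime_iff_not_dvd hp.out, hp.out.dvd_mul, not_or]
      exact ⟨not_dvd_card_Ht hH, by rw [← ha]; exact hpq1⟩
    have hG := Subgroup.card_mul_index (Subgroup.centralizer {tt φ})
    rw [card_C hH] at hG
    rw [← hG] at hC
    have h2 : Nat.card F * Nat.card F ^ 2 ∣ Nat.card F * ((Nat.card (Ht φ) * (Nat.card F + 1)) *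
        (Subgroup.centralizer {tt φ}).index) := by
      have e1 : Nat.card F * Nat.card F ^ 2 = Nat.card F ^ 3 := by ring
      rw [e1]
      convert hC using 1; ring
    have h6 := hcop.dvd_of_dvd_mul_left (Nat.dvd_of_mul_dvd_mul_left Nat.card_pos h2)
    exact_mod_cast h6

end Cfsg.Agent.Classification.InvCentPL.QDOrder
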