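import Cfsg.Agent.Classification.IdL3.Local
import Cfsg.Agent.Lib.KleinOrder
import Cfsg.Agent.Blocks.SylowIn

/-!
The Sylow `p`-subgroups of a group `G` with an involution `t` whose centralizer is `GL₂(q) / Z`:
`A φ` is Sylow, or `A φ ⊔ B (cφ n φ)` is Sylow (of order `q²`), or `q³` divides `|G|`.
-/

set_option autoImplicit false
set_option linter.unusedSectionVars false

namespace Cfsg.Agent.Classification.InvCentPL.Tri

open Matrix
open scoped MatrixGroups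
open Cfsg.Agent.Classification.IdL3.Mat
open Cfsg.Agent.Classification.IdL3.MatTwo
open Cfsg.Agent.Classification.IdL3.MatThree
open Cfsg.Agent.Classification.IdL3.Setup
open Cfsg.Agent.Classification.IdL3.SetupTwo
open Cfsg.Agent.Classification.IdL3.Core
open Cfsg.Agent.Classification.IdL3.Local

section general

variable {G : Type*} [Group G]

/-- A `p`-subgroup containing all `p`-elements of its normalizer is Sylow. -/
theorem sylow_of_pelt_normalizer [Finite G] {p : ℕ} [Fact p.Prime] {P : Subgroup G}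
    (hP : IsPGroup p P)
    (h : ∀ g ∈ Subgroup.normalizer (P : Set G), ∀ k : ℕ, g ^ p ^ k = 1 → g ∈ P) :
    ∃ S : Sylow p G, (S : Subgroup G) = P := by
  obtain ⟨S, hS⟩ := hP.exists_le_sylow
  refine ⟨S, Blocks.SylowIn.eq_of_normalizer_inf_le S.isPGroup' hS ?_⟩
  rintro g ⟨hg1, hg2⟩
  obtain ⟨k, hk⟩ := S.isPGroup' ⟨g, hg2⟩
  exact h g hg1 k (congrArg Subtype.val hk)

/-- A power of a product `k * h` with `h` normalizing `K ∋ k`. -/
theorem mul_pow_mem' {K : Subgroup G} {k h : G} (hk : k ∈ K)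
    (hh : ∀ x ∈ K, h * x * h⁻¹ ∈ K) (m : ℕ) : ∃ k' ∈ K, (k * h) ^ m = k' * h ^ m := by
  have hp : ∀ m : ℕ, ∀ x ∈ K, h ^ m * x * (h ^ m)⁻¹ ∈ K := by
    intro m
    induction m with
    | zero => intro x hx; simpa using hx
    | succ m ih =>
      intro x hx
      have := ih _ (hh x hx)
      have e : h ^ (m + 1) * x * (h ^ (m + 1))⁻¹ = h ^ m * (h * x * h⁻¹) * (h ^ m)⁻¹ := by
        rw [pow_succ]; group
      rwa [e]
  induction m with
  | zero => exact ⟨1, K.one_mem, by simp⟩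
  | succ m ih =>
    obtain ⟨k', hk', e⟩ := ih
    refine ⟨k' * (h ^ m * k * (h ^ m)⁻¹), K.mul_mem hk' (hp m k hk), ?_⟩
    rw [pow_succ, e, pow_succ]; group

/-- If `k h` is a `p`-element, `h` normalizes `K ∋ k` and the order of `h` is prime to `p`,
then `h ∈ K`. -/
theorem mem_of_pelt_mul {p : ℕ} {K : Subgroup G} {k h : G} (hk : k ∈ K)
    (hh : ∀ x ∈ K, h * x * h⁻¹ ∈ K) {m : ℕ} (hm : (k * h) ^ p ^ m = 1)
    (hcop : Nat.Coprime (orderOf h) p) : h ∈ K := by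
  obtain ⟨k', hk', e⟩ := mul_pow_mem' hk hh (p ^ m)
  rw [hm] at e
  have h1 : h ^ p ^ m ∈ K := by
    have : h ^ p ^ m = k'⁻¹ := by rw [eq_comm, inv_eq_iff_mul_eq_one]; exact e.symm
    rw [this]; exact K.inv_mem hk'
  have hcop' : Nat.Coprime (p ^ m) (orderOf h) := (hcop.symm).pow_left m
  obtain ⟨i, hi⟩ := exists_pow_eq_self_of_coprime hcop'
  rw [← hi]
  exact K.pow_mem h1 i

/-- Involutions `u`, `s` whose product is in `C` of odd order are conjugate under `C`. -/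
theorem conj_of_odd_mul {C : Subgroup G} {u s : G} (hu : u * u = 1) (hs : s * s = 1)
    (hC : u * s ∈ C) (ho : Odd (orderOf (u * s))) : ∃ c ∈ C, c * u * c⁻¹ = s := by
  obtain ⟨m, hm⟩ := ho
  set d := u * s with hd
  have hu' : u⁻¹ = u := inv_eq_of_mul_eq_one_left hu
  have hs' : s⁻¹ = s := inv_eq_of_mul_eq_one_left hs
  have hinv : u * d * u⁻¹ = d⁻¹ := by
    rw [hd, _root_.mul_inv_rev, hu', hs', ← mul_assoc, hu, one_mul]
  -- `u d^m u⁻¹ = d^{-m}`
  have hinvm : u * d ^ m * u⁻¹ = (d ^ m)⁻¹ := by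
    rw [← inv_pow, ← hinv]
    exact (conj_pow (i := m) (a := u) (b := d)).symm
  have h1 : d ^ m * d ^ m * d = 1 := by
    have := pow_orderOf_eq_one d
    rwa [hm, pow_succ, two_mul, pow_add] at this
  refine ⟨d ^ m, C.pow_mem hC m, ?_⟩
  -- `d^m u d^{-m} = d^m (u d^{-m} u) u = d^m d^m u = d⁻¹ u = s u u`
  have h2 : u * (d ^ m)⁻¹ = d ^ m * u := by
    have h3 : u * (d ^ m)⁻¹ * u⁻¹ = (u * d ^ m * u⁻¹)⁻¹ := by
      rw [_root_.mul_inv_rev, _root_.mul_inv_rev, inv_inv, mul_assoc]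
    rw [hinvm, inv_inv] at h3
    exact mul_inv_eq_iff_eq_mul.1 h3
  rw [mul_assoc, h2, ← mul_assoc]
  have h3 : d ^ m * d ^ m = d⁻¹ := eq_inv_of_mul_eq_one_left h1
  rw [h3, hd, _root_.mul_inv_rev, hu', hs', mul_assoc, hu, mul_one]

/-- A `p`-group normalizing a group of order divisible by `p` centralizes a nontrivial element. -/
theorem exists_fixed_of_pgroup [Finite G] {p : ℕ} [Fact p.Prime] {X E : Subgroup G}
    (hX : IsPGroup p X) (hE : p ∣ Nat.card E) (hN : ∀ x ∈ X, ∀ e ∈ E, x * e * x⁻¹ ∈ E) :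
    ∃ e ∈ E, e ≠ 1 ∧ ∀ x ∈ X, x * e = e * x := by
  let _ : MulAction X E :=
    { smul := fun x e => ⟨(x : G) * e * (x : G)⁻¹, hN x x.2 e e.2⟩
      one_smul := fun e => Subtype.ext (by show (1 : G) * e * (1 : G)⁻¹ = e; group)
      mul_smul := fun x y e => Subtype.ext (by
        show ((x : G) * y) * e * ((x : G) * y)⁻¹ = x * (y * e * (y : G)⁻¹) * (x : G)⁻¹
        group) }
  have h1 : (1 : E) ∈ MulAction.fixedPoints X E := by
    intro x
    exact Subtype.ext (by show (x : G) * 1 * (x : G)⁻¹ = 1; group)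
  obtain ⟨e, he, hne⟩ := hX.exists_fixed_point_of_prime_dvd_card_of_fixed_point E hE h1
  refine ⟨e, e.2, fun h => hne (Subtype.ext h.symm), fun x hx => ?_⟩
  have h2 : (x : G) * e * (x : G)⁻¹ = e := congrArg Subtype.val (he ⟨x, hx⟩)
  exact mul_inv_eq_iff_eq_mul.1 h2

end general

variable {F : Type*} [Field F] {G : Type*} [Group G] {φ : GL (Fin 2) F →* G} {n : G}

/-- Elements of `C(t)` normalizing `A` lie in the Borel subgroup. -/
theorem borel_of_norm (hH : Hyp φ n) {x : GL (Fin 2) F} (h : φ x * φ (U 1) * (φ x)⁻¹ ∈ A φ) :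
    ∃ y ∈ A φ, ∃ h ∈ Ht φ, φ x = y * h := by
  obtain ⟨c, hc⟩ := mem_A.1 h
  have h1 : φ (x * U 1 * x⁻¹ * (U c)⁻¹) = 1 := by
    rw [map_mul, map_mul, map_mul, map_inv, map_inv, hc]; group
  obtain ⟨a, ha⟩ := hH.ker_T h1
  have h2 : x * U 1 = T a a * U c * x := by
    rw [← ha]; group
  have e10 := congrArg (fun g : GL (Fin 2) F => g.1 1 0) h2
  have e11 := congrArg (fun g : GL (Fin 2) F => g.1 1 1) h2
  simp only [mul_val, U_00, U_01, U_10, U_11, T_10, T_11] at e10 e11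
  have h10 : x.1 1 0 = 0 := by
    by_contra hne
    have e10' : x.1 1 0 * ((a : F) - 1) = 0 := by linear_combination -e10
    have ha1 : (a : F) = 1 := sub_eq_zero.1 ((mul_eq_zero.1 e10').resolve_left hne)
    rw [ha1] at e11
    apply hne
    linear_combination e11
  obtain ⟨y, b, d, rfl⟩ := eq_UT x h10
  exact ⟨_, mem_A.2 ⟨y, rfl⟩, _, mem_Ht.2 ⟨b, d, rfl⟩, map_mul _ _ _⟩

/-- `N_G(A) = K H`. -/
theorem norm_A (hH : Hyp φ n) {p : ℕ} [Fact p.Prime] [CharP F p] {K : Subgroup G}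
    (hK : Core φ (Subgroup.centralizer (A φ : Set G)) K) {g : G}
    (hg : g ∈ Subgroup.normalizer (A φ : Set G)) : ∃ k ∈ K, ∃ h ∈ Ht φ, g = k * h := by
  have hgA := Subgroup.mem_normalizer_iff.1 hg
  have hgA' := Subgroup.mem_normalizer_iff''.1 hg
  -- `u = g t g⁻¹` centralizes `A`
  have huC : g * tt φ * g⁻¹ ∈ Subgroup.centralizer (A φ : Set G) := by
    rw [Subgroup.mem_centralizer_iff]
    intro x hx
    have h1 : g⁻¹ * x * g ∈ A φ := (hgA' x).1 hx
    have h2 := tt_comm_A h1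
    calc x * (g * tt φ * g⁻¹) = g * (g⁻¹ * x * g * tt φ) * g⁻¹ := by group
      _ = g * tt φ * g⁻¹ * x := by rw [h2]; group
  obtain ⟨c, hc, hcu⟩ := hK.inv _ huC (by
      have : g * tt φ * g⁻¹ * (g * tt φ * g⁻¹) = g * (tt φ * tt φ) * g⁻¹ := by group
      rw [this, tt_sq]; group) (by
      intro h
      apply hH.tt_ne
      have : tt φ = g⁻¹ * (g * tt φ * g⁻¹) * g := by group
      rw [this, h]; group)
  have hcomm : (c * g) * tt φ = tt φ * (c * g) := by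
    have : c * g * tt φ = c * (g * tt φ * g⁻¹) * c⁻¹ * (c * g) := by group
    rw [this, hcu]
  obtain ⟨x, hx⟩ := hH.cent _ hcomm
  have hxA : φ x * φ (U 1) * (φ x)⁻¹ ∈ A φ := by
    have h1 : g * φ (U 1) * g⁻¹ ∈ A φ := (hgA _).1 (mem_A.2 ⟨1, rfl⟩)
    have h2 := Subgroup.mem_centralizer_iff.1 hc _ h1
    have h3 : φ x * φ (U 1) * (φ x)⁻¹ = c * (g * φ (U 1) * g⁻¹) * c⁻¹ := by rw [hx]; group
    rw [h3, ← h2]
    have h4 : g * φ (U 1) * g⁻¹ * c * c⁻¹ = g * φ (U 1) * g⁻¹ := by group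
    rw [h4]; exact h1
  obtain ⟨y, hy, h, hh, e⟩ := borel_of_norm hH hxA
  -- `g = c⁻¹ y h`, `c⁻¹ ∈ K Zc`
  obtain ⟨k, hk, z, hz, e2⟩ := hK.dec _ ((Subgroup.centralizer (A φ : Set G)).inv_mem hc)
  have hyK : y ∈ K := A_le_core p hH hK hy
  refine ⟨k * y, K.mul_mem hk hyK, z * h, (Ht φ).mul_mem (Zc_le_Ht hz) hh, ?_⟩
  have e3 : g = c⁻¹ * (y * h) := by rw [← e, hx]; group
  rw [e3, e2]
  have h5 : y * z = z * y := comm_AZ hy hz
  calc k * z * (y * h) = k * (z * y) * h := by group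
    _ = k * y * (z * h) := by rw [← h5]; group

section pelt

variable {p : ℕ} [hp : Fact p.Prime] [CharP F p]

theorem Ht_coprime [Finite F] {h : G} (hh : h ∈ Ht φ) : Nat.Coprime (orderOf h) p := by
  have h1 := orderOf_dvd_of_pow_eq_one (Ht_pow hh)
  have hq : p ∣ Nat.card F := by
    have : Fintype F := Fintype.ofFinite F
    obtain ⟨m, _, hm⟩ := FiniteField.card F p
    rw [Nat.card_eq_fintype_card, hm]
    exact dvd_pow_self p m.ne_zero
  have hpos : 0 < Nat.card F := Nat.card_pos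
  have hcop : Nat.Coprime (Nat.card F - 1) p := by
    rw [Nat.coprime_comm, Nat.Prime.coprime_iff_not_dvd hp.out]
    intro h2
    have h3 := Nat.dvd_sub hq h2
    have h4 : Nat.card F - (Nat.card F - 1) = 1 := by omega
    rw [h4] at h3
    exact hp.out.one_lt.ne' (Nat.dvd_one.mp h3)
  exact hcop.coprime_dvd_left h1

/-- `Ht` normalizes the core. -/
theorem Ht_conj_K {K : Subgroup G} (hK : Core φ (Subgroup.centralizer (A φ : Set G)) K) {h : G}
    (hh : h ∈ Ht φ) {x : G} (hx : x ∈ K) : h * x * h⁻¹ ∈ K :=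
  hK.conj (fun _ hc => Ht_conj_C hh hc) hx

/-- **Case (a)**: if none of the three relations holds, `A φ` is a Sylow subgroup of `G`. -/
theorem sylow_A [Finite G] [Finite F] (hH : Hyp φ n) (ha : ¬ Ra φ n) (hb : ¬ Rb φ n)
    (hb' : ¬ Rb φ n⁻¹) : ∃ S : Sylow p G, (S : Subgroup G) = A φ := by
  obtain ⟨x, hx, hx1⟩ := exists_A_ne hH
  obtain ⟨K, hK⟩ := exists_core hH (p := p) (Y := (A φ : Set G)) subset_rfl hx hx1
  refine sylow_of_pelt_normalizer A_pgroup fun g hg k hk => ?_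
  obtain ⟨c, hc, h, hh, rfl⟩ := norm_A (p := p) hH hK hg
  have h1 : h ∈ K := mem_of_pelt_mul hc (fun x hx => Ht_conj_K hK hh hx) hk (Ht_coprime hh)
  by_contra hgA
  rcases step_one hH hK (K.mul_mem hc h1) hgA hk with h2 | h2 | h2
  · exact ha h2
  · exact hb h2
  · exact hb' h2

end pelt

/-- Membership in the join of two commuting subgroups. -/
theorem mem_sup_of_cm {X Y : Subgroup G} (h : Cm X Y) {g : G} :
    g ∈ X ⊔ Y ↔ ∃ x ∈ X, ∃ y ∈ Y, g = x * y := by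
  constructor
  · intro hg
    let M : Subgroup G :=
      { carrier := {g | ∃ x ∈ X, ∃ y ∈ Y, g = x * y}
        mul_mem' := by
          rintro _ _ ⟨x, hx, y, hy, rfl⟩ ⟨x', hx', y', hy', rfl⟩
          refine ⟨x * x', X.mul_mem hx hx', y * y', Y.mul_mem hy hy', ?_⟩
          have := h x' hx' y hy
          calc x * y * (x' * y') = x * (y * x') * y' := by group
            _ = x * x' * (y * y') := by rw [← this]; group
        one_mem' := ⟨1, X.one_mem, 1, Y.one_mem, (one_mul 1).symm⟩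
        inv_mem' := by
          rintro _ ⟨x, hx, y, hy, rfl⟩
          refine ⟨x⁻¹, X.inv_mem hx, y⁻¹, Y.inv_mem hy, ?_⟩
          rw [← _root_.mul_inv_rev, h x hx y hy] }
    have hM : X ⊔ Y ≤ M := sup_le (fun x hx => ⟨x, hx, 1, Y.one_mem, (mul_one x).symm⟩)
      (fun y hy => ⟨1, X.one_mem, y, hy, (one_mul y).symm⟩)
    exact hM hg
  · rintro ⟨x, hx, y, hy, rfl⟩
    exact Subgroup.mul_mem_sup hx hy

section caseC

variable {p : ℕ} [hp : Fact p.Prime] [CharP F p]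

/-- `p`-elements of a subgroup of `C(t)` containing `A` but not `t`. -/
theorem pelt_mem_A [Finite F] (hH : Hyp φ n) (M : Subgroup G)
    (hM : ∀ m ∈ M, m * tt φ = tt φ * m) (ht : tt φ ∉ M) (hA : A φ ≤ M) {m : G} (hm : m ∈ M)
    {k : ℕ} (hk : m ^ p ^ k = 1) : m ∈ A φ := by
  obtain ⟨x, hx, h, hh, rfl⟩ := borel_of_not_mem hH M hM ht hA hm
  rw [borel_pelt hH hx hh hk, mul_one]
  exact hx

theorem pelt_mem_B [Finite F] (hH : Hyp φ n) (M : Subgroup G)
    (hM : ∀ m ∈ M, m * tt φ = tt φ * m) (ht : tt φ ∉ M) (hB : B φ ≤ M) {m : G} (hm : m ∈ M)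
    {k : ℕ} (hk : m ^ p ^ k = 1) : m ∈ B φ := by
  rw [← A_fl] at hB ⊢
  rw [← tt_fl] at hM ht
  exact pelt_mem_A hH.flip M hM ht hB hm hk

/-- `A ∩ C`-type statement: an element of `A φ` or `B φ` inverted and centralized by an involution
is trivial. -/
theorem eq_one_of_inverted {x : G} (hodd : Odd (orderOf x)) {s : G}
    (h1 : s * x * s⁻¹ = x⁻¹) (h2 : s * x = x * s) : x = 1 := by
  have h3 : x = x⁻¹ := by
    rw [← h1, h2]; group
  have h4 : x * x = 1 := by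
    nth_rw 2 [h3]; exact mul_inv_cancel x
  obtain ⟨m, hm⟩ := hodd
  have := pow_orderOf_eq_one x
  rwa [hm, pow_succ, pow_mul, pow_two, h4, one_pow, one_mul] at this

theorem odd_A (p : ℕ) [Fact p.Prime] [CharP F p] (hH : Hyp φ n) {x : G} (hx : x ∈ A φ) :
    Odd (orderOf x) :=
  Odd.of_dvd_nat (odd_p (p := p) hH) (orderOf_dvd_of_pow_eq_one (A_pow hx))

theorem odd_B (p : ℕ) [Fact p.Prime] [CharP F p] (hH : Hyp φ n) {x : G} (hx : x ∈ B φ) :
    Odd (orderOf x) := by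
  rw [← A_fl] at hx
  exact odd_A p hH.flip hx

/-- `n⁻¹ t n` inverts `A φ`. -/
theorem s'_inverts_A (hH : Hyp φ n) {x : G} (hx : x ∈ A φ) :
    (n⁻¹ * tt φ * n) * x * (n⁻¹ * tt φ * n)⁻¹ = x⁻¹ := Pair.inverts_A hH.pair.symm hx

theorem s_inverts_A (hH : Hyp φ n) {x : G} (hx : x ∈ A φ) :
    (n * tt φ * n⁻¹) * x * (n * tt φ * n⁻¹)⁻¹ = x⁻¹ := Pair.inverts_A hH.pair hx

theorem rot_pair (hH : Hyp φ n) : Pair (cφ n φ) (n⁻¹ * tt φ * n) (tt φ) := by
  have h1 := hH.rot.pair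
  rw [tt_cφ, hH.n_t1] at h1
  have h2 : n⁻¹ * (n * tt φ * n⁻¹) * n = tt φ := by group
  rwa [h2] at h1

/-- `n⁻¹ t n` inverts `B (cφ n φ)`. -/
theorem s'_inverts_B1 (hH : Hyp φ n) {x : G} (hx : x ∈ B (cφ n φ)) :
    (n⁻¹ * tt φ * n) * x * (n⁻¹ * tt φ * n)⁻¹ = x⁻¹ := Pair.inverts_B (rot_pair hH) hx

/-- `t` inverts `B (cφ n φ)`. -/
theorem t_inverts_B1 (hH : Hyp φ n) {x : G} (hx : x ∈ B (cφ n φ)) :
    tt φ * x * (tt φ)⁻¹ = x⁻¹ := Pair.inverts_B (rot_pair hH).symm hx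

theorem s_comm_B1 {x : G} (hx : x ∈ B (cφ n φ)) :
    x * (n * tt φ * n⁻¹) = (n * tt φ * n⁻¹) * x := tt_comm_B (φ := cφ n φ) hx

theorem A_inf_B1 (p : ℕ) [Fact p.Prime] [CharP F p] (hH : Hyp φ n) {x : G} (hx : x ∈ A φ)
    (hx' : x ∈ B (cφ n φ)) : x = 1 :=
  eq_one_of_inverted (odd_A p hH hx) (t_inverts_B1 hH hx') (tt_comm_A hx).symm

/-- The elementary abelian group `A × B₁`. -/
def E (φ : GL (Fin 2) F →* G) (n : G) : Subgroup G := A φ ⊔ B (cφ n φ)

theorem mem_E (hb : Rb φ n) {g : G} : g ∈ E φ n ↔ ∃ x ∈ A φ, ∃ y ∈ B (cφ n φ), g = x * y :=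
  mem_sup_of_cm hb

theorem B_comm {x y : G} (hx : x ∈ B φ) (hy : y ∈ B φ) : x * y = y * x := by
  rw [← A_fl] at hx hy
  exact A_comm hx hy

theorem E_comm (hb : Rb φ n) {x y : G} (hx : x ∈ E φ n) (hy : y ∈ E φ n) : x * y = y * x := by
  obtain ⟨a, ha, b, hb1, rfl⟩ := (mem_E hb).1 hx
  obtain ⟨a', ha', b', hb1', rfl⟩ := (mem_E hb).1 hy
  have e1 : Commute a a' := A_comm ha ha'
  have e2 : Commute a b' := hb a ha b' hb1'
  have e3 : Commute a' b := hb a' ha' b hb1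
  have e4 : Commute b b' := B_comm hb1 hb1'
  exact ((e1.mul_right e2).mul_left ((e3.symm).mul_right e4))

theorem B_pow {p : ℕ} [CharP F p] {x : G} (hx : x ∈ B φ) : x ^ p = 1 := by
  rw [← A_fl] at hx
  exact A_pow hx

theorem E_pow {p : ℕ} [CharP F p] (hb : Rb φ n) {x : G} (hx : x ∈ E φ n) : x ^ p = 1 := by
  obtain ⟨a, ha, b, hb1, rfl⟩ := (mem_E hb).1 hx
  have e2 : Commute a b := hb a ha b hb1
  rw [e2.mul_pow, A_pow ha, B_pow hb1, mul_one]

theorem E_pgroup {p : ℕ} [CharP F p] (hb : Rb φ n) : IsPGroup p (E φ n) := by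
  rintro ⟨x, hx⟩
  exact ⟨1, Subtype.ext (by show x ^ p ^ 1 = 1; rw [pow_one]; exact E_pow hb hx)⟩

theorem card_B (hH : Hyp φ n) : Nat.card (B φ) = Nat.card F := by
  rw [← A_fl]; exact card_A hH.flip

theorem card_E (p : ℕ) [Fact p.Prime] [CharP F p] (hH : Hyp φ n) (hb : Rb φ n) :
    Nat.card (E φ n) = Nat.card F ^ 2 := by
  have h1 : Nat.card (A φ × B (cφ n φ)) = Nat.card F ^ 2 := by
    rw [Nat.card_prod, card_A hH, card_B hH.rot, pow_two]
  rw [← h1]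
  refine (Nat.card_congr (Equiv.ofBijective (fun x : A φ × B (cφ n φ) =>
    (⟨x.1.1 * x.2.1, (mem_E hb).2 ⟨_, x.1.2, _, x.2.2, rfl⟩⟩ : E φ n)) ⟨?_, ?_⟩)).symm
  · rintro ⟨⟨a, ha⟩, ⟨b, hb1⟩⟩ ⟨⟨a', ha'⟩, ⟨b', hb1'⟩⟩ e
    have e1 : a * b = a' * b' := congrArg Subtype.val e
    have e2 : a'⁻¹ * a = b' * b⁻¹ := by
      rw [inv_mul_eq_iff_eq_mul, ← mul_assoc, ← e1]; group
    have e3 : a'⁻¹ * a = 1 := A_inf_B1 p hH ((A φ).mul_mem ((A φ).inv_mem ha') ha)
      (by rw [e2]; exact (B (cφ n φ)).mul_mem hb1' ((B (cφ n φ)).inv_mem hb1))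
    have e4 : a = a' := (inv_mul_eq_one.1 e3).symm
    subst e4
    have e5 : b = b' := mul_left_cancel e1
    subst e5
    rfl
  · rintro ⟨x, hx⟩
    obtain ⟨a, ha, b, hb1, rfl⟩ := (mem_E hb).1 hx
    exact ⟨⟨⟨a, ha⟩, ⟨b, hb1⟩⟩, rfl⟩

theorem E_inverted (hH : Hyp φ n) (hb : Rb φ n) {x : G} (hx : x ∈ E φ n) :
    (n⁻¹ * tt φ * n) * x * (n⁻¹ * tt φ * n)⁻¹ = x⁻¹ := by
  obtain ⟨a, ha, b, hb1, rfl⟩ := (mem_E hb).1 hx
  have h1 := s'_inverts_A hH ha
  have h2 := s'_inverts_B1 hH hb1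
  set s := n⁻¹ * tt φ * n
  calc s * (a * b) * s⁻¹ = (s * a * s⁻¹) * (s * b * s⁻¹) := by group
    _ = a⁻¹ * b⁻¹ := by rw [h1, h2]
    _ = (a * b)⁻¹ := by rw [_root_.mul_inv_rev, ← hb _ ((A φ).inv_mem ha) _ ((B _).inv_mem hb1)]

theorem Ht_conj_E (hH : Hyp φ n) (hb : Rb φ n) {h x : G} (hh : h ∈ Ht φ) (hx : x ∈ E φ n) :
    h * x * h⁻¹ ∈ E φ n := by
  obtain ⟨a, ha, b, hb1, rfl⟩ := (mem_E hb).1 hx
  refine (mem_E hb).2 ⟨h * a * h⁻¹, conj_A hh ha, h * b * h⁻¹, conj_B ?_ hb1, by group⟩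
  rwa [hH.Ht_rot]

theorem t_not_mem [Finite G] (hH : Hyp φ n) {K : Subgroup G} (hKo : Odd (Nat.card K)) : tt φ ∉ K := by
  intro h
  have h1 : orderOf (tt φ) = 2 :=
    orderOf_eq_prime (by rw [pow_two]; exact tt_sq φ) hH.tt_ne
  have h2 : orderOf (⟨tt φ, h⟩ : K) ∣ Nat.card K := orderOf_dvd_natCard _
  rw [Subgroup.orderOf_mk, h1] at h2
  exact (Nat.not_even_iff_odd.2 hKo) (even_iff_two_dvd.2 h2)

theorem B1_le_K (p : ℕ) [Fact p.Prime] [CharP F p] (hH : Hyp φ n) (hb : Rb φ n) {K : Subgroup G}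
    (hK : Core φ (Subgroup.centralizer (A φ : Set G)) K) : B (cφ n φ) ≤ K := by
  intro x hx
  rw [hK.mem]
  exact ⟨Subgroup.mem_centralizer_iff.2 fun y hy => hb y hy x hx, odd_B p hH.rot hx⟩

/-- `p`-elements of `K ∩ C(s)` lie in `B₁`. -/
theorem pelt_mem_B1 [Finite G] [Finite F] (hH : Hyp φ n) (hb : Rb φ n) {K : Subgroup G}
    (hK : Core φ (Subgroup.centralizer (A φ : Set G)) K) {u : G} (hu : u ∈ K) {k : ℕ}
    (huk : u ^ p ^ k = 1) (hc : u * (n * tt φ * n⁻¹) = (n * tt φ * n⁻¹) * u) :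
    u ∈ B (cφ n φ) := by
  refine pelt_mem_B hH.rot (K ⊓ Subgroup.centralizer {n * tt φ * n⁻¹}) ?_ ?_ ?_ (m := u) ?_ huk
  · intro m hm
    exact Subgroup.mem_centralizer_singleton_iff.mp hm.2
  · intro h
    exact t_not_mem hH.rot hK.odd h.1
  · intro x hx
    exact ⟨B1_le_K p hH hb hK hx, Subgroup.mem_centralizer_singleton_iff.mpr (s_comm_B1 hx)⟩
  · exact ⟨hu, Subgroup.mem_centralizer_singleton_iff.mpr hc⟩

/-- `A B₁` is Sylow in the core. -/
theorem E_sylow_K [Finite G] [Finite F] (hH : Hyp φ n) (ha : ¬ Ra φ n) (hb : Rb φ n)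
    (hb' : ¬ Rb φ n⁻¹) {K : Subgroup G}
    (hK : Core φ (Subgroup.centralizer (A φ : Set G)) K) :
    ∃ T : Sylow p K, (T : Subgroup K).map K.subtype = E φ n := by
  have hEK : E φ n ≤ K := sup_le (A_le_core p hH hK) (B1_le_K p hH hb hK)
  obtain ⟨S, hSyl, hSD, hES⟩ := exists_inv_sylow (p := p) hK hEK (E_pgroup hb)
    (fun b hb1 u hu => Ht_conj_E hH hb (Dv_le_Ht hb1) hu)
  obtain ⟨x, hx, hx1⟩ := exists_A_ne hH
  have hSK := sylow_le hSyl
  have hSE : S ≤ E φ n := by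
    refine le_of_D hH (odd_of_sylow hK.odd hSK) hSD ?_ ?_ ?_
    · intro u hu hc
      obtain ⟨k, hk⟩ := sylow_pelt hSyl hu
      have h1 := hK.le (hSK hu)
      exact Subgroup.mem_sup_left
        (mem_A_of_pelt hH hx hx1 hc (Subgroup.mem_centralizer_iff.mp h1 x hx).symm hk)
    · intro u hu hc
      obtain ⟨k, hk⟩ := sylow_pelt hSyl hu
      exact Subgroup.mem_sup_right (pelt_mem_B1 hH hb hK (hSK hu) hk hc)
    · intro u hu hc
      obtain ⟨k, hk⟩ := sylow_pelt hSyl hu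
      by_cases hu1 : u = 1
      · rw [hu1]; exact (E φ n).one_mem
      · have hc' : u * (n⁻¹ * tt φ * n⁻¹⁻¹) = n⁻¹ * tt φ * n⁻¹⁻¹ * u := by rw [inv_inv]; exact hc
        rcases rel_of_pelt hH.inv hK (hSK hu) hu1 hk hc' with h | h
        · have := Ra.inv hH.inv h
          rw [inv_inv] at this
          exact absurd this ha
        · exact absurd h hb'
  have : S = E φ n := le_antisymm hSE hES
  rwa [this] at hSyl

/-- A `p`-element of a group `K` normalizing a Sylow subgroup is in this Sylow subgroup. -/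
theorem mem_of_norm_sylow [Finite G] {K P : Subgroup G}
    (hP : ∃ T : Sylow p K, (T : Subgroup K).map K.subtype = P) {g : G} (hg : g ∈ K)
    (hgP : g ∈ Subgroup.normalizer (P : Set G)) {k : ℕ} (hk : g ^ p ^ k = 1) : g ∈ P := by
  obtain ⟨T, rfl⟩ := hP
  have hz : IsPGroup p (Subgroup.zpowers (⟨g, hg⟩ : K)) := by
    rintro ⟨x, m, rfl⟩
    refine ⟨k, Subtype.ext (Subtype.ext ?_)⟩
    show (g ^ m) ^ p ^ k = 1
    rw [← zpow_natCast, ← _root_.zpow_mul, mul_comm, _root_.zpow_mul, zpow_natCast, hk,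
      _root_.one_zpow]
  have hn : (⟨g, hg⟩ : K) ∈ Subgroup.normalizer ((T : Subgroup K) : Set K) := by
    rw [Subgroup.mem_normalizer_iff] at hgP ⊢
    intro h
    have h1 := hgP (h : G)
    constructor
    · intro hh
      obtain ⟨y, hy, hye⟩ := h1.1 ⟨h, hh, rfl⟩
      have : y = ⟨g, hg⟩ * h * ⟨g, hg⟩⁻¹ := Subtype.ext hye
      rwa [← this]
    · intro hh
      obtain ⟨y, hy, hye⟩ := h1.2 ⟨_, hh, rfl⟩
      have : y = h := Subtype.ext hye
      rwa [← this]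
  have h2 := hz.inf_normalizer_sylow T
  have h3 : (⟨g, hg⟩ : K) ∈ Subgroup.zpowers (⟨g, hg⟩ : K) ⊓ (T : Subgroup K) := by
    rw [← h2]
    exact ⟨Subgroup.mem_zpowers _, hn⟩
  exact ⟨_, h3.2, rfl⟩

/-- `C_G(E)` has odd order. -/
theorem odd_centralizer_E [Finite G] [Finite F] (p : ℕ) [Fact p.Prime] [CharP F p] (hH : Hyp φ n)
    (hb : Rb φ n) {g : G} (hg : g ∈ Subgroup.centralizer (E φ n : Set G)) : Odd (orderOf g) := by
  obtain ⟨x, hx, hx1⟩ := exists_A_ne hH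
  obtain ⟨K, hK⟩ := exists_core hH (p := p) (Y := (A φ : Set G)) subset_rfl hx hx1
  have hCA : ∀ u ∈ Subgroup.centralizer (E φ n : Set G),
      u ∈ Subgroup.centralizer (A φ : Set G) := by
    intro u hu
    rw [Subgroup.mem_centralizer_iff] at hu ⊢
    exact fun y hy => hu y (Subgroup.mem_sup_left hy)
  have key : ∀ u ∈ Subgroup.centralizer (E φ n : Set G), u * u = 1 → u = 1 := by
    intro u hu h2
    by_contra h1
    obtain ⟨c, hc, hcu⟩ := hK.inv u (hCA u hu) h2 h1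
    -- `c B₁ c⁻¹ ≤ A`
    obtain ⟨b, hbm, hb1⟩ := exists_A_ne hH.rot.flip
    rw [A_fl] at hbm
    have hbE : b ∈ E φ n := Subgroup.mem_sup_right hbm
    have hub : b * u = u * b := Subgroup.mem_centralizer_iff.1 hu b hbE
    have hcx : x * c = c * x := Subgroup.mem_centralizer_iff.1 hc x hx
    have hbx : x * b = b * x := hb x hx b hbm
    have h3 : c * b * c⁻¹ ∈ A φ := by
      refine mem_A_of_pelt (p := p) (k := 1) hH hx hx1 ?_ ?_ ?_
      · rw [← hcu]
        calc c * b * c⁻¹ * (c * u * c⁻¹) = c * (b * u) * c⁻¹ := by group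
          _ = c * u * c⁻¹ * (c * b * c⁻¹) := by rw [hub]; group
      · have h4 : c⁻¹ * x = x * c⁻¹ := by
          rw [inv_mul_eq_iff_eq_mul, ← mul_assoc, ← hcx]; group
        calc c * b * c⁻¹ * x = c * b * (c⁻¹ * x) := by group
          _ = c * (b * x) * c⁻¹ := by rw [h4]; group
          _ = (c * x) * b * c⁻¹ := by rw [← hbx]; group
          _ = x * (c * b * c⁻¹) := by rw [← hcx]; group
      · rw [pow_one, conj_pow, B_pow hbm]; group
    have h5 := Subgroup.mem_centralizer_iff.1 hc _ h3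
    have h6 : b = c * b * c⁻¹ := by
      have h7 : c⁻¹ * (c * b * c⁻¹) * c = c * b * c⁻¹ := by
        rw [mul_assoc, h5]; group
      have h8 : c⁻¹ * (c * b * c⁻¹) * c = b := by group
      rw [← h7, h8]
    rw [← h6] at h3
    exact hb1 (A_inf_B1 p hH h3 hbm)
  rw [← Nat.not_even_iff_odd, even_iff_two_dvd]
  intro h2
  set m := orderOf g / 2 with hm
  have hm2 : orderOf g = m * 2 := (Nat.div_mul_cancel h2).symm
  have h3 : g ^ m = 1 := by
    apply key _ ((Subgroup.centralizer (E φ n : Set G)).pow_mem hg m)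
    rw [← pow_two, ← pow_mul, ← hm2, pow_orderOf_eq_one]
  have h4 := Nat.le_of_dvd ?_ (orderOf_dvd_of_pow_eq_one h3)
  · have := orderOf_pos g
    omega
  · have := orderOf_pos g
    omega

/-- `Y = N_G(E) ∩ C_G(n⁻¹ t n)`. -/
def Y (φ : GL (Fin 2) F →* G) (n : G) : Subgroup G :=
  Subgroup.normalizer (E φ n : Set G) ⊓ Subgroup.centralizer {n⁻¹ * tt φ * n}

theorem s'_sq (hH : Hyp φ n) : (n⁻¹ * tt φ * n) * (n⁻¹ * tt φ * n) = 1 := hH.pair.symm.sq

/-- `N_G(E) = C_G(E) Y`. -/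
theorem norm_E [Finite G] [Finite F] (p : ℕ) [Fact p.Prime] [CharP F p] (hH : Hyp φ n)
    (hb : Rb φ n) {g : G} (hg : g ∈ Subgroup.normalizer (E φ n : Set G)) :
    ∃ c ∈ Subgroup.centralizer (E φ n : Set G), ∃ y ∈ Y φ n, g = c * y := by
  set s := n⁻¹ * tt φ * n with hs
  have hss : s * s = 1 := s'_sq hH
  have hsi : s⁻¹ = s := inv_eq_of_mul_eq_one_left hss
  have hgE := Subgroup.mem_normalizer_iff.1 hg
  have hgE' := Subgroup.mem_normalizer_iff''.1 hg
  have hinv : ∀ x ∈ E φ n, s * x * s⁻¹ = x⁻¹ := fun x hx => E_inverted hH hb hx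
  have hinv' : ∀ x ∈ E φ n, g * s * g⁻¹ * x * (g * s * g⁻¹)⁻¹ = x⁻¹ := by
    intro x hx
    have h1 := hinv _ ((hgE' x).1 hx)
    calc g * s * g⁻¹ * x * (g * s * g⁻¹)⁻¹ = g * (s * (g⁻¹ * x * g) * s⁻¹) * g⁻¹ := by group
      _ = x⁻¹ := by rw [h1]; group
  have hC : g * s * g⁻¹ * s ∈ Subgroup.centralizer (E φ n : Set G) := by
    rw [Subgroup.mem_centralizer_iff]
    intro x hx
    have h1 := hinv x hx
    have h2 := hinv' _ ((E φ n).inv_mem hx)
    rw [inv_inv] at h2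
    have h3 : g * s * g⁻¹ * s * x * (g * s * g⁻¹ * s)⁻¹ = x := by
      calc g * s * g⁻¹ * s * x * (g * s * g⁻¹ * s)⁻¹
          = g * s * g⁻¹ * (s * x * s⁻¹) * (g * s * g⁻¹)⁻¹ := by group
        _ = x := by rw [h1, h2]
    exact (mul_inv_eq_iff_eq_mul.1 h3).symm
  have ho := odd_centralizer_E p hH hb hC
  obtain ⟨c, hc, hcu⟩ := conj_of_odd_mul (C := Subgroup.centralizer (E φ n : Set G))
    (u := g * s * g⁻¹) (s := s) (by
      have : g * s * g⁻¹ * (g * s * g⁻¹) = g * (s * s) * g⁻¹ := by group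
      rw [this, hss]; group) hss hC ho
  refine ⟨c⁻¹, (Subgroup.centralizer (E φ n : Set G)).inv_mem hc, c * g, ⟨?_, ?_⟩, by group⟩
  · refine (Subgroup.normalizer (E φ n : Set G)).mul_mem ?_ hg
    rw [Subgroup.mem_normalizer_iff]
    intro x
    constructor
    · intro hx
      have h1 := Subgroup.mem_centralizer_iff.1 hc x hx
      have : c * x * c⁻¹ = x := by rw [← h1]; group
      rwa [this]
    · intro hx
      have h1 := Subgroup.mem_centralizer_iff.1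
        ((Subgroup.centralizer (E φ n : Set G)).inv_mem hc) _ hx
      have h2 : c⁻¹ * (c * x * c⁻¹) * c⁻¹⁻¹ = c * x * c⁻¹ := by rw [← h1]; group
      have h3 : c⁻¹ * (c * x * c⁻¹) * c⁻¹⁻¹ = x := by group
      rw [h3] at h2
      rw [h2]; exact hx
  · refine Subgroup.mem_centralizer_singleton_iff.mpr ?_
    calc c * g * s = c * (g * s * g⁻¹) * c⁻¹ * (c * g) := by group
      _ = s * (c * g) := by rw [hcu]

theorem Ht_le_Y [Finite G] (hH : Hyp φ n) (hb : Rb φ n) : Ht φ ≤ Y φ n := by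
  intro h hh
  refine Subgroup.mem_inf.2
    ⟨?_, Subgroup.mem_centralizer_singleton_iff.mpr (Ht_comm hh hH.pair.symm.mem)⟩
  rw [Subgroup.mem_normalizer_iff]
  intro x
  constructor
  · exact fun hx => Ht_conj_E hH hb hh hx
  · intro hx
    have := Ht_conj_E hH hb ((Ht φ).inv_mem hh) hx
    have h2 : h⁻¹ * (h * x * h⁻¹) * h⁻¹⁻¹ = x := by group
    rwa [h2] at this

theorem p_dvd_card_F [Finite F] : p ∣ Nat.card F := by
  have : Fintype F := Fintype.ofFinite F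
  obtain ⟨m, _, hm⟩ := FiniteField.card F p
  rw [Nat.card_eq_fintype_card, hm]
  exact dvd_pow_self p m.ne_zero

/-- An `H`-invariant `p`-subgroup normalizing `E` commutes with `A` or with `B₁`. -/
theorem cm_of_norm [Finite G] [Finite F] (p : ℕ) [Fact p.Prime] [CharP F p] (hH : Hyp φ n)
    (hb : Rb φ n) {X : Subgroup G} (hXp : IsPGroup p X) (hXE : ∀ x ∈ X, ∀ e ∈ E φ n, x * e * x⁻¹ ∈ E φ n)
    (hXH : ∀ h ∈ Ht φ, ∀ x ∈ X, h * x * h⁻¹ ∈ X) : Cm (A φ) X ∨ Cm (B (cφ n φ)) X := by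
  obtain ⟨e, he, he1, hec⟩ := exists_fixed_of_pgroup hXp (by
    rw [card_E p hH hb]; exact (p_dvd_card_F (F := F)).trans (dvd_pow_self _ two_ne_zero)) hXE
  set F0 : Subgroup G := E φ n ⊓ Subgroup.centralizer (X : Set G) with hF0
  have heF0 : e ∈ F0 := ⟨he, Subgroup.mem_centralizer_iff.2 fun x hx => hec x hx⟩
  have hHF0 : ∀ h ∈ Ht φ, ∀ x ∈ F0, h * x * h⁻¹ ∈ F0 := by
    intro h hh x hx
    refine ⟨Ht_conj_E hH hb hh hx.1, Subgroup.mem_centralizer_iff.2 fun y hy => ?_⟩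
    have h1 : h⁻¹ * y * h ∈ X := by
      have := hXH _ ((Ht φ).inv_mem hh) y hy
      rwa [inv_inv] at this
    have h2 := Subgroup.mem_centralizer_iff.1 hx.2 _ h1
    calc y * (h * x * h⁻¹) = h * (h⁻¹ * y * h * x) * h⁻¹ := by group
      _ = h * x * h⁻¹ * y := by rw [h2]; group
  have hodd : Odd (Nat.card F0) := by
    have h1 : Odd (Nat.card (E φ n)) := by
      obtain ⟨k, hk⟩ := (IsPGroup.iff_card.1 (E_pgroup (p := p) hb))
      rw [hk]; exact (odd_p (p := p) hH).pow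
    exact Odd.of_dvd_nat h1 (Subgroup.card_dvd_of_le inf_le_left)
  by_contra hcon
  rw [not_or] at hcon
  obtain ⟨h1, h2⟩ := hcon
  have hA : ∀ x ∈ F0, x ∈ A φ → x = 1 := by
    intro x hx hxA
    by_contra hx1
    apply h1
    have h3 := A_le_of_mem hHF0 hxA hx hx1
    intro a ha y hy
    exact (Subgroup.mem_centralizer_iff.1 (h3 ha).2 y hy).symm
  have hB : ∀ x ∈ F0, x ∈ B (cφ n φ) → x = 1 := by
    intro x hx hxA
    by_contra hx1
    apply h2
    have h3 := B_le_of_mem (φ := cφ n φ) (K := F0) (by rw [hH.Ht_rot]; exact hHF0) hxA hx hx1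
    intro a ha y hy
    exact (Subgroup.mem_centralizer_iff.1 (h3 ha).2 y hy).symm
  have key : F0 ≤ ⊥ := by
    refine le_of_D hH hodd (fun b hb1 u hu => hHF0 b (Dv_le_Ht hb1) u hu) ?_ ?_ ?_
    · intro u hu hc
      -- `u = a b` commutes with `t`, so `b = 1`
      obtain ⟨a, ha, b, hbm, rfl⟩ := (mem_E hb).1 hu.1
      have h3 : b * tt φ = tt φ * b := by
        have h4 := tt_comm_A ha
        have h5 : a * (b * tt φ) = a * (tt φ * b) := by
          calc a * (b * tt φ) = a * b * tt φ := by group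
            _ = (tt φ * a) * b := by rw [hc]; group
            _ = a * (tt φ * b) := by rw [← h4]; group
        exact mul_left_cancel h5
      have h6 : b = 1 := eq_one_of_inverted (odd_B p hH.rot hbm) (t_inverts_B1 hH hbm) h3.symm
      rw [h6, mul_one] at hu ⊢
      exact Subgroup.mem_bot.2 (hA a hu ha)
    · intro u hu hc
      obtain ⟨a, ha, b, hbm, rfl⟩ := (mem_E hb).1 hu.1
      set s := n * tt φ * n⁻¹ with hs
      have h3 : a * s = s * a := by
        have h4 : b * s = s * b := s_comm_B1 hbm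
        have h5 : a * s * b = s * a * b := by
          calc a * s * b = a * (s * b) := by group
            _ = a * b * s := by rw [← h4]; group
            _ = s * a * b := by rw [hc]; group
        exact mul_right_cancel h5
      have h6 : a = 1 := eq_one_of_inverted (odd_A p hH ha) (s_inverts_A hH ha) h3.symm
      rw [h6, one_mul] at hu ⊢
      exact Subgroup.mem_bot.2 (hB b hu hbm)
    · intro u hu hc
      have h7 : Odd (orderOf u) :=
        Odd.of_dvd_nat (odd_p (p := p) hH) (orderOf_dvd_of_pow_eq_one (E_pow hb hu.1))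
      exact Subgroup.mem_bot.2 (eq_one_of_inverted h7 (E_inverted hH hb hu.1) hc.symm)
  exact he1 (Subgroup.mem_bot.1 (key heF0))

theorem conj_Y_E {y e : G} (hy : y ∈ Y φ n) (he : e ∈ E φ n) : y * e * y⁻¹ ∈ E φ n :=
  (Subgroup.mem_normalizer_iff.1 hy.1 e).1 he

/-- `Y` has no nontrivial `p`-elements. -/
theorem Y_pelt [Finite G] [Finite F] (hH : Hyp φ n) (ha : ¬ Ra φ n) (hb : Rb φ n)
    (hb' : ¬ Rb φ n⁻¹) {y : G} (hy : y ∈ Y φ n) {k : ℕ} (hk : y ^ p ^ k = 1) : y = 1 := by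
  by_contra hy1
  have hHY := Ht_le_Y hH hb
  rcases torus_G hH.rot' (Y φ n) (by
      intro m hm
      rw [tt_cφ, inv_inv]
      exact Subgroup.mem_centralizer_singleton_iff.mp hm.2) (by
      intro h hh m hm
      rw [hH.Ht_rot'] at hh
      exact (Y φ n).mul_mem ((Y φ n).mul_mem (hHY hh) hm) ((Y φ n).inv_mem (hHY hh)))
    hy hy1 hk with h | h
  · rcases cm_of_norm p hH hb (X := A (cφ n⁻¹ φ)) A_pgroup (fun x hx e he => conj_Y_E (h hx) he)
      (fun h hh x hx => conj_A (by rwa [hH.Ht_rot']) hx) with h1 | h1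
    · have h2 : Ra φ n⁻¹ := h1
      have := Ra.inv hH.inv h2
      rw [inv_inv] at this
      exact ha this
    · have h2 := (Cm.cj h1 n).symm
      rw [cj_n_B1 hH, cj_n_A2] at h2
      exact hb' h2
  · rcases cm_of_norm p hH hb (X := B (cφ n⁻¹ φ)) B_pgroup (fun x hx e he => conj_Y_E (h hx) he)
      (fun h hh x hx => conj_B (by rwa [hH.Ht_rot']) hx) with h1 | h1
    · exact hb' h1
    · have h2 := Cm.cj h1 n⁻¹
      rw [← cj_n_B1 hH, ← cj_n_B, cj_cj, cj_cj, inv_mul_cancel, cj_one, cj_one, cj_n_B] at h2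
      have h3 := Cm.cj h2 (wv φ)
      rw [cj_wv_B, cj_w_B1 hH] at h3
      have h4 : Ra φ n⁻¹ := h3
      have := Ra.inv hH.inv h4
      rw [inv_inv] at this
      exact ha this

theorem Y_coprime [Finite G] [Finite F] (hH : Hyp φ n) (ha : ¬ Ra φ n) (hb : Rb φ n)
    (hb' : ¬ Rb φ n⁻¹) : ¬ p ∣ Nat.card (Y φ n) := by
  intro h
  obtain ⟨⟨y, hy⟩, hyo⟩ := exists_prime_orderOf_dvd_card' p h
  rw [Subgroup.orderOf_mk] at hyo
  have h1 : y = 1 := Y_pelt (p := p) (k := 1) hH ha hb hb' hy (by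
    rw [pow_one, ← hyo, pow_orderOf_eq_one])
  rw [h1, orderOf_one] at hyo
  exact hp.out.one_lt.ne hyo

theorem centralizer_E_conj {g c : G} (hg : g ∈ Subgroup.normalizer (E φ n : Set G))
    (hc : c ∈ Subgroup.centralizer (E φ n : Set G)) :
    g * c * g⁻¹ ∈ Subgroup.centralizer (E φ n : Set G) := by
  refine Subgroup.mem_centralizer_iff.2 fun x hx => ?_
  have h1 := (Subgroup.mem_normalizer_iff''.1 hg x).1 hx
  have h2 := Subgroup.mem_centralizer_iff.1 hc _ h1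
  calc x * (g * c * g⁻¹) = g * (g⁻¹ * x * g * c) * g⁻¹ := by group
    _ = g * c * g⁻¹ * x := by rw [h2]; group

theorem mem_centralizer_A_of_E {u : G} (hu : u ∈ Subgroup.centralizer (E φ n : Set G)) :
    u ∈ Subgroup.centralizer (A φ : Set G) := by
  rw [Subgroup.mem_centralizer_iff] at hu ⊢
  exact fun y hy => hu y (Subgroup.mem_sup_left hy)

/-- **Case (c)**: `E = A × B₁` is a Sylow subgroup of `G`. -/
theorem sylow_E [Finite G] [Finite F] (hH : Hyp φ n) (ha : ¬ Ra φ n) (hb : Rb φ n)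
    (hb' : ¬ Rb φ n⁻¹) : ∃ S : Sylow p G, (S : Subgroup G) = E φ n := by
  obtain ⟨x, hx, hx1⟩ := exists_A_ne hH
  obtain ⟨K, hK⟩ := exists_core hH (p := p) (Y := (A φ : Set G)) subset_rfl hx hx1
  refine sylow_of_pelt_normalizer (E_pgroup hb) fun g hg k hk => ?_
  obtain ⟨c, hc, y, hy, rfl⟩ := norm_E p hH hb hg
  have hcop : Nat.Coprime (orderOf y) p := by
    rw [Nat.coprime_comm, Nat.Prime.coprime_iff_not_dvd hp.out]
    intro h1
    refine Y_coprime (p := p) hH ha hb hb' (h1.trans ?_)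
    have := orderOf_dvd_natCard (⟨y, hy⟩ : Y φ n)
    rwa [Subgroup.orderOf_mk] at this
  have h1 : y ∈ Subgroup.centralizer (E φ n : Set G) :=
    mem_of_pelt_mul hc (fun x hx => centralizer_E_conj hy.1 hx) hk hcop
  have h2 := (Subgroup.centralizer (E φ n : Set G)).mul_mem hc h1
  have h3 : c * y ∈ K := (hK.mem _).2 ⟨mem_centralizer_A_of_E h2, odd_centralizer_E p hH hb h2⟩
  refine mem_of_norm_sylow (p := p) (E_sylow_K hH ha hb hb' hK) h3 hg hk

end caseC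

section q3

/-- Otherwise `q³` divides `|G|`. -/
theorem q3_dvd [Finite G] [Finite F] (p : ℕ) [hp : Fact p.Prime] [CharP F p] (hH : Hyp φ n)
    (h : Ra φ n ∨ (Rb φ n ∧ Rb φ n⁻¹)) : Nat.card F ^ 3 ∣ Nat.card G := by
  obtain ⟨x, hx, hx1⟩ := exists_A_ne hH
  obtain ⟨K, hK⟩ := exists_core hH (p := p) (Y := (A φ : Set G)) subset_rfl hx hx1
  set s := n * tt φ * n⁻¹ with hs
  set s' := n⁻¹ * tt φ * n with hs'
  have hts : tt φ * s = s' := hH.pair.mul''
  have hcomm : tt φ * s = s * tt φ := Ht_comm tt_mem_Ht hH.pair.mem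
  have hkl := Lib.KleinOrder.card_klein (a := tt φ) (b := s) K hK.odd (tt_sq φ) hH.pair.sq hcomm
    (fun k hk => Ht_conj_K hK tt_mem_Ht hk) (fun k hk => Ht_conj_K hK hH.pair.mem hk)
  rw [hts] at hkl
  -- the three factors
  have h1 : Nat.card F ∣ Nat.card (K ⊓ Subgroup.centralizer {tt φ} : Subgroup G) := by
    rw [← card_A hH]
    exact Subgroup.card_dvd_of_le (le_inf (A_le_core p hH hK) fun y hy =>
      Subgroup.mem_centralizer_singleton_iff.2 (tt_comm_A hy))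
  have h2 : Nat.card F ∣ Nat.card (K ⊓ Subgroup.centralizer {s} : Subgroup G) := by
    rcases h with h | ⟨h, _⟩
    · rw [← card_A hH.rot]
      refine Subgroup.card_dvd_of_le (le_inf (fun y hy => ?_) fun y hy =>
        Subgroup.mem_centralizer_singleton_iff.2 (tt_comm_A (φ := cφ n φ) hy))
      rw [hK.mem]
      exact ⟨Subgroup.mem_centralizer_iff.2 fun z hz => h z hz y hy, odd_A p hH.rot hy⟩
    · rw [← card_B hH.rot]
      exact Subgroup.card_dvd_of_le (le_inf (B1_le_K p hH h hK) fun y hy =>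
        Subgroup.mem_centralizer_singleton_iff.2 (s_comm_B1 hy))
  have h3 : Nat.card F ∣ Nat.card (K ⊓ Subgroup.centralizer {s'} : Subgroup G) := by
    have e : s' = n⁻¹ * tt φ * n⁻¹⁻¹ := by rw [inv_inv]
    rw [e]
    rcases h with h | ⟨_, h⟩
    · rw [← card_A hH.inv.rot]
      have h4 : Ra φ n⁻¹ := Ra.inv hH h
      refine Subgroup.card_dvd_of_le (le_inf (fun y hy => ?_) fun y hy =>
        Subgroup.mem_centralizer_singleton_iff.2 (tt_comm_A (φ := cφ n⁻¹ φ) hy))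
      rw [hK.mem]
      exact ⟨Subgroup.mem_centralizer_iff.2 fun z hz => h4 z hz y hy, odd_A p hH.inv.rot hy⟩
    · rw [← card_B hH.inv.rot]
      exact Subgroup.card_dvd_of_le (le_inf (B1_le_K p hH.inv h hK) fun y hy =>
        Subgroup.mem_centralizer_singleton_iff.2 (s_comm_B1 hy))
  -- `K ∩ H` has order prime to `p`
  have h0 : Nat.Coprime (Nat.card F ^ 3)
      (Nat.card (K ⊓ Subgroup.centralizer {tt φ} ⊓ Subgroup.centralizer {s} : Subgroup G) ^ 2) := by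
    apply Nat.Coprime.pow
    have : Fintype F := Fintype.ofFinite F
    obtain ⟨m, _, hm⟩ := FiniteField.card F p
    rw [Nat.card_eq_fintype_card, hm]
    apply Nat.Coprime.pow_left
    rw [Nat.Prime.coprime_iff_not_dvd hp.out]
    intro h4
    obtain ⟨⟨y, hy⟩, hyo⟩ := exists_prime_orderOf_dvd_card' p h4
    rw [Subgroup.orderOf_mk] at hyo
    have hyH : y ∈ Ht φ := hH.mem_Ht_of_comm (Subgroup.mem_centralizer_singleton_iff.1 hy.1.2)
      (Subgroup.mem_centralizer_singleton_iff.1 hy.2)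
    have h5 := Ht_coprime (p := p) hyH
    rw [hyo, Nat.coprime_self] at h5
    exact hp.out.one_lt.ne' h5
  have h4 : Nat.card F ^ 3 ∣ Nat.card K := by
    refine h0.dvd_of_dvd_mul_right ?_
    rw [hkl, pow_succ, pow_two]
    exact mul_dvd_mul (mul_dvd_mul h1 h2) h3
  exact h4.trans (Subgroup.card_subgroup_dvd_card K)

end q3

/-- **Trichotomy.** -/
theorem trichotomy [Finite G] [Finite F] (p : ℕ) [hp : Fact p.Prime] [CharP F p] (hH : Hyp φ n) :
    (∃ S : Sylow p G, (S : Subgroup G) = A φ) ∨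
      (¬ Ra φ n ∧ ((Rb φ n ∧ ¬ Rb φ n⁻¹) ∨ (¬ Rb φ n ∧ Rb φ n⁻¹))) ∨
      Nat.card F ^ 3 ∣ Nat.card G := by
  by_cases ha : Ra φ n
  · exact Or.inr (Or.inr (q3_dvd p hH (Or.inl ha)))
  by_cases hb : Rb φ n
  · by_cases hb' : Rb φ n⁻¹
    · exact Or.inr (Or.inr (q3_dvd p hH (Or.inr ⟨hb, hb'⟩)))
    · exact Or.inr (Or.inl ⟨ha, Or.inl ⟨hb, hb'⟩⟩)
  · by_cases hb' : Rb φ n⁻¹
    · exact Or.inr (Or.inl ⟨ha, Or.inr ⟨hb, hb'⟩⟩)
    · exact Or.inl (sylow_A hH ha hb hb')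

end Cfsg.Agent.Classification.InvCentPL.Tri
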