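import Cfsg.Agent.Classification.InvCentPL.QDOrder
import Cfsg.Agent.Classification.InvCentPL.Tri
import Cfsg.Agent.Lib.ProductSet

/-!
The trichotomy for the Sylow `p`-subgroups, in the form used in `QDOrder`.
-/

set_option autoImplicit false
set_option linter.unusedSectionVars false

namespace Cfsg.Agent.Classification.InvCentPL.QDTri

open Matrix
open scoped MatrixGroups Pointwise
open Cfsg.Agent.Classification.IdL3.Mat
open Cfsg.Agent.Classification.IdL3.MatTwo
open Cfsg.Agent.Classification.IdL3.MatThree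
open Cfsg.Agent.Classification.IdL3.Setup
open Cfsg.Agent.Classification.IdL3.SetupTwo
open Cfsg.Agent.Classification.IdL3.Core
open Cfsg.Agent.Classification.IdL3.Local
open Cfsg.Agent.Classification.InvCentPL.Tri

variable {F : Type*} [Field F] {G : Type*} [Group G] {φ : GL (Fin 2) F →* G} {n : G}

/-- The part in `C(t)` of a subgroup of `C(A)` containing `A`. -/
theorem card_inf_centralizer [Finite G] (hH : Hyp φ n) {C : Subgroup G} (hA : A φ ≤ C)
    (hC : C ≤ Subgroup.centralizer (A φ : Set G)) :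
    Nat.card (C ⊓ Subgroup.centralizer {tt φ} : Subgroup G) =
      Nat.card F * Nat.card (C ⊓ Ht φ : Subgroup G) := by
  obtain ⟨x, hx, hx1⟩ := exists_A_ne hH
  rw [← card_A hH, ← Nat.card_prod]
  have hcomm : ∀ a ∈ A φ, ∀ c ∈ C, a * c = c * a := fun a ha c hc =>
    Subgroup.mem_centralizer_iff.1 (hC hc) a ha
  symm
  refine Nat.card_congr (Equiv.ofBijective
    (fun x : A φ × (C ⊓ Ht φ : Subgroup G) => (⟨x.1.1 * x.2.1,
      Subgroup.mem_inf.2 ⟨C.mul_mem (hA x.1.2) x.2.2.1, Subgroup.mem_centralizer_singleton_iff.2 ?_⟩⟩ :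
      (C ⊓ Subgroup.centralizer {tt φ} : Subgroup G))) ⟨?_, ?_⟩)
  · have h1 := tt_comm_A x.1.2
    have h2 : (x.2 : G) * tt φ = tt φ * x.2 := Ht_comm x.2.2.2 tt_mem_Ht
    calc (x.1 : G) * x.2 * tt φ = x.1 * (x.2 * tt φ) := by group
      _ = (x.1 * tt φ) * x.2 := by rw [h2]; group
      _ = tt φ * (x.1 * x.2) := by rw [h1]; group
  · rintro ⟨⟨a, ha⟩, ⟨b, hb⟩⟩ ⟨⟨a', ha'⟩, ⟨b', hb'⟩⟩ e
    have e1 : a * b = a' * b' := congrArg Subtype.val e
    have e2 : a'⁻¹ * a = b' * b⁻¹ := by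
      rw [inv_mul_eq_iff_eq_mul, ← mul_assoc, ← e1]; group
    have e3 : a'⁻¹ * a = 1 := A_inf_Ht hH ((A φ).mul_mem ((A φ).inv_mem ha') ha)
      (by rw [e2]; exact (Ht φ).mul_mem hb'.2 ((Ht φ).inv_mem hb.2))
    have e4 : a = a' := (inv_mul_eq_one.1 e3).symm
    subst e4
    have e5 : b = b' := mul_left_cancel e1
    subst e5
    rfl
  · rintro ⟨g, hg⟩
    obtain ⟨a, ha, z, hz, e⟩ := mem_AZ hH hx hx1 (Subgroup.mem_centralizer_singleton_iff.1 hg.2)
      (hcomm x hx g hg.1).symm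
    have hzC : z ∈ C := by
      have : z = a⁻¹ * g := by rw [e]; group
      rw [this]; exact C.mul_mem (C.inv_mem (hA ha)) hg.1
    exact ⟨⟨⟨a, ha⟩, ⟨z, hzC, Zc_le_Ht hz⟩⟩, Subtype.ext e.symm⟩

variable {p : ℕ} [hp : Fact p.Prime] [CharP F p]

theorem Ht_conj_CE (hH : Hyp φ n) (hb : Rb φ n) {h c : G} (hh : h ∈ Ht φ)
    (hc : c ∈ Subgroup.centralizer (E φ n : Set G)) :
    h * c * h⁻¹ ∈ Subgroup.centralizer (E φ n : Set G) := by
  refine Subgroup.mem_centralizer_iff.2 fun x hx => ?_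
  have h1 : h⁻¹ * x * h ∈ E φ n := by
    have := Ht_conj_E hH hb ((Ht φ).inv_mem hh) hx
    rwa [inv_inv] at this
  have h2 := Subgroup.mem_centralizer_iff.1 hc _ h1
  calc x * (h * c * h⁻¹) = h * (h⁻¹ * x * h * c) * h⁻¹ := by group
    _ = h * c * h⁻¹ * x := by rw [h2]; group

/-- `|C(E)| = q² |C(E) ∩ C(n⁻¹ t n)|`. -/
theorem card_centralizer_E [Finite G] [Finite F] (p : ℕ) [hp : Fact p.Prime] [CharP F p]
    (hH : Hyp φ n) (hb : Rb φ n) :
    Nat.card (Subgroup.centralizer (E φ n : Set G)) = Nat.card F ^ 2 *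
      Nat.card (Subgroup.centralizer (E φ n : Set G) ⊓ Subgroup.centralizer {n⁻¹ * tt φ * n} :
        Subgroup G) := by
  set C := Subgroup.centralizer (E φ n : Set G) with hC
  have hodd : Odd (Nat.card C) := odd_card_of_forall fun g hg => odd_centralizer_E p hH hb hg
  have hts : tt φ * (n * tt φ * n⁻¹) = n⁻¹ * tt φ * n := hH.pair.mul''
  have hcomm : tt φ * (n * tt φ * n⁻¹) = (n * tt φ * n⁻¹) * tt φ := Ht_comm tt_mem_Ht hH.pair.mem
  have hkl := Lib.KleinOrder.card_klein (a := tt φ) (b := n * tt φ * n⁻¹) C hodd (tt_sq φ)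
    hH.pair.sq hcomm (fun k hk => Ht_conj_CE hH hb tt_mem_Ht hk)
    (fun k hk => Ht_conj_CE hH hb hH.pair.mem hk)
  rw [hts] at hkl
  have h1 : Nat.card (C ⊓ Subgroup.centralizer {tt φ} : Subgroup G) =
      Nat.card F * Nat.card (C ⊓ Ht φ : Subgroup G) := by
    refine card_inf_centralizer hH (fun x hx => ?_) (fun x hx => mem_centralizer_A_of_E hx)
    exact Subgroup.mem_centralizer_iff.2 fun y hy => E_comm hb hy (Subgroup.mem_sup_left hx)
  have h2 : Nat.card (C ⊓ Subgroup.centralizer {n * tt φ * n⁻¹} : Subgroup G) =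
      Nat.card F * Nat.card (C ⊓ Ht φ : Subgroup G) := by
    have h := card_inf_centralizer hH.rot.flip (C := C) (fun x hx => ?_) (fun x hx => ?_)
    · rw [tt_fl, Ht_fl, hH.Ht_rot, tt_cφ] at h
      exact h
    · rw [A_fl] at hx
      exact Subgroup.mem_centralizer_iff.2 fun y hy => E_comm hb hy (Subgroup.mem_sup_right hx)
    · rw [A_fl]
      exact Subgroup.mem_centralizer_iff.2 fun y hy =>
        Subgroup.mem_centralizer_iff.1 hx y (Subgroup.mem_sup_right hy)
  have h0 : C ⊓ Subgroup.centralizer {tt φ} ⊓ Subgroup.centralizer {n * tt φ * n⁻¹} =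
      C ⊓ Ht φ := by
    apply le_antisymm
    · intro g hg
      exact ⟨hg.1.1, hH.mem_Ht_of_comm (Subgroup.mem_centralizer_singleton_iff.1 hg.1.2)
        (Subgroup.mem_centralizer_singleton_iff.1 hg.2)⟩
    · intro g hg
      exact ⟨⟨hg.1, Subgroup.mem_centralizer_singleton_iff.2 (Ht_comm hg.2 tt_mem_Ht)⟩,
        Subgroup.mem_centralizer_singleton_iff.2 (Ht_comm hg.2 hH.pair.mem)⟩
  rw [h0, h1, h2] at hkl
  have hpos : 0 < Nat.card (C ⊓ Ht φ : Subgroup G) := Nat.card_pos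
  have hpos2 : 0 < Nat.card (C ⊓ Ht φ : Subgroup G) ^ 2 := pow_pos hpos 2
  apply Nat.eq_of_mul_eq_mul_right hpos2
  rw [hkl]; ring

/-- `|N(E)| = q² |Y|`. -/
theorem card_norm_E [Finite G] [Finite F] (p : ℕ) [hp : Fact p.Prime] [CharP F p]
    (hH : Hyp φ n) (hb : Rb φ n) :
    Nat.card (Subgroup.normalizer (E φ n : Set G)) = Nat.card F ^ 2 * Nat.card (Y φ n) := by
  set C := Subgroup.centralizer (E φ n : Set G) with hC
  set N := Subgroup.normalizer (E φ n : Set G) with hN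
  have hCN : C ≤ N := by
    intro c hc
    rw [hN, Subgroup.mem_normalizer_iff]
    intro x
    constructor
    · intro hx
      have h1 := Subgroup.mem_centralizer_iff.1 hc x hx
      have : c * x * c⁻¹ = x := by rw [← h1]; group
      rwa [this]
    · intro hx
      have h1 := Subgroup.mem_centralizer_iff.1 (C.inv_mem hc) _ hx
      have h2 : c⁻¹ * (c * x * c⁻¹) * c⁻¹⁻¹ = c * x * c⁻¹ := by rw [← h1]; group
      have h3 : c⁻¹ * (c * x * c⁻¹) * c⁻¹⁻¹ = x := by group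
      rw [h3] at h2
      rw [h2]; exact hx
  have h1 : ((C : Set G) * (Y φ n : Set G)) = (N : Set G) := by
    ext g
    constructor
    · rintro ⟨c, hc, y, hy, rfl⟩
      exact N.mul_mem (hCN hc) hy.1
    · intro hg
      obtain ⟨c, hc, y, hy, e⟩ := norm_E p hH hb hg
      exact ⟨c, hc, y, hy, e.symm⟩
  have h2 : C ⊓ Y φ n = C ⊓ Subgroup.centralizer {n⁻¹ * tt φ * n} := by
    apply le_antisymm
    · exact fun g hg => ⟨hg.1, hg.2.2⟩
    · exact fun g hg => ⟨hg.1, hCN hg.1, hg.2⟩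
  have h3 := Lib.ProductSet.card_mul_card_inf C (Y φ n)
  rw [h1, h2] at h3
  have h4 : Nat.card (N : Set G) = Nat.card N := rfl
  rw [h4, card_centralizer_E p hH hb] at h3
  have hpos : 0 < Nat.card (C ⊓ Subgroup.centralizer {n⁻¹ * tt φ * n} : Subgroup G) := Nat.card_pos
  apply Nat.eq_of_mul_eq_mul_right hpos
  rw [h3]; ring

theorem caseC [Finite G] [Finite F] (p : ℕ) [hp : Fact p.Prime] [CharP F p]
    (hH : Hyp φ n) (ha : ¬ Ra φ n) (hb : Rb φ n) (hb' : ¬ Rb φ n⁻¹) : QDOrder.CaseC φ n p where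
  syl := sylow_E hH ha hb hb'
  card := card_E p hH hb
  cop := Y_coprime hH ha hb hb'
  norm := card_norm_E p hH hb

/-- **Trichotomy.** -/
theorem tri [Finite G] [Finite F] (p : ℕ) [hp : Fact p.Prime] [CharP F p] (hH : Hyp φ n) :
    QDOrder.Tri φ n p := by
  rcases trichotomy p hH with h | ⟨ha, ⟨hb, hb'⟩ | ⟨hb, hb'⟩⟩ | h
  · exact Or.inl h
  · exact Or.inr (Or.inl (caseC p hH ha hb hb'))
  · refine Or.inr (Or.inr (Or.inl (caseC p hH.inv ?_ hb' (by rwa [inv_inv]))))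
    intro h
    have := Ra.inv hH.inv h
    rw [inv_inv] at this
    exact ha this
  · exact Or.inr (Or.inr (Or.inr h))

end Cfsg.Agent.Classification.InvCentPL.QDTri
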